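import Groth.Agent.FibCatRep.Basic
import Groth.Prelude.Def_W4stkcategoriessitesFib
import Mathlib.CategoryTheory.Functor.FullyFaithful

/-!
Calculus of strongly cartesian morphisms over their images, fibred fibre products, and a criterion
for equivalences over the base.
-/

set_option autoImplicit false
set_option backward.isDefEq.respectTransparency false
set_option linter.style.haveILetI false
universe v u v₂ u₂ v₃ u₃ v₄ u₄

namespace Groth.Agent.FibCatRep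

open CategoryTheory CategoryTheory.Limits FibCat

variable {C : Type u} [Category.{v} C]

section cart

variable {𝒳 : Type u₂} [Category.{v₂} 𝒳] (p : 𝒳 ⥤ C)

/-- `φ` is strongly cartesian over its image. -/
def Cart {y x : 𝒳} (φ : y ⟶ x) : Prop := p.IsStronglyCartesian (p.map φ) φ

variable {p}

lemma cart_of_lift {R S : C} (f : R ⟶ S) {y x : 𝒳} (φ : y ⟶ x)
    (h : p.IsStronglyCartesian f φ) : Cart p φ := by
  obtain rfl := IsHomLift.domain_eq p f φ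
  obtain rfl := IsHomLift.codomain_eq p f φ
  obtain rfl := IsHomLift.eq_of_isHomLift p f φ
  exact h

lemma lift_of_cart {R S : C} (f : R ⟶ S) {y x : 𝒳} (φ : y ⟶ x) [p.IsHomLift f φ]
    (h : Cart p φ) : p.IsStronglyCartesian f φ := by
  obtain rfl := IsHomLift.domain_eq p f φ
  obtain rfl := IsHomLift.codomain_eq p f φ
  obtain rfl := IsHomLift.eq_of_isHomLift p f φ
  exact h

lemma existsUnique_of_cart {z y x : 𝒳} {φ : y ⟶ x} (hφ : Cart p φ) (ψ : z ⟶ x)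
    (g : p.obj z ⟶ p.obj y) (h : g ≫ p.map φ = p.map ψ) :
    ∃! χ : z ⟶ y, p.map χ = g ∧ χ ≫ φ = ψ := by
  haveI : p.IsStronglyCartesian (p.map φ) φ := hφ
  haveI : p.IsHomLift (g ≫ p.map φ) ψ := by rw [h]; infer_instance
  obtain ⟨χ, ⟨hχ, hc⟩, hu⟩ :=
    Functor.IsStronglyCartesian.universal_property' (p := p) (f := p.map φ) (φ := φ) g ψ
  exact ⟨χ, ⟨(IsHomLift.eq_of_isHomLift p g χ).symm, hc⟩,
    fun χ' h' => hu χ' ⟨by rw [← h'.1]; infer_instance, h'.2⟩⟩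

lemma cancel_of_cart {z y x : 𝒳} {φ : y ⟶ x} (hφ : Cart p φ) {χ χ' : z ⟶ y}
    (h : p.map χ = p.map χ') (h' : χ ≫ φ = χ' ≫ φ) : χ = χ' :=
  (existsUnique_of_cart hφ (χ' ≫ φ) (p.map χ') (p.map_comp _ _).symm).unique ⟨h, h'⟩ ⟨rfl, rfl⟩

lemma cart_mk {y x : 𝒳} (φ : y ⟶ x)
    (h : ∀ {z : 𝒳} (ψ : z ⟶ x) (g : p.obj z ⟶ p.obj y), g ≫ p.map φ = p.map ψ →
      ∃! χ : z ⟶ y, p.map χ = g ∧ χ ≫ φ = ψ) : Cart p φ :=
  { universal_property' := fun {a'} g ψ _ => by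
      obtain ⟨χ, ⟨hχ, hc⟩, hu⟩ := h ψ g (IsHomLift.eq_of_isHomLift p _ ψ)
      exact ⟨χ, ⟨by rw [← hχ]; infer_instance, hc⟩,
        fun χ' ⟨h', hc'⟩ => hu χ' ⟨(IsHomLift.eq_of_isHomLift p g χ').symm, hc'⟩⟩ }

lemma exists_cart_lift [p.IsFibered] {x : 𝒳} {V : C} (f : V ⟶ p.obj x) :
    ∃ (y : 𝒳) (φ : y ⟶ x) (h : p.obj y = V), p.map φ = eqToHom h ≫ f ∧ Cart p φ := by
  obtain ⟨y, φ, hφ⟩ := Functor.IsPreFibered.exists_isCartesian' (p := p) f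
  exact ⟨y, φ, IsHomLift.domain_eq p f φ, (IsHomLift.fac' p f φ).trans (by simp),
    cart_of_lift f φ (Functor.IsFibered.isStronglyCartesian_of_isCartesian p f φ)⟩

lemma isFibered_of_lifts (h : ∀ (x : 𝒳) (V : C) (f : V ⟶ p.obj x),
    ∃ (y : 𝒳) (φ : y ⟶ x) (h : p.obj y = V), p.map φ = eqToHom h ≫ f ∧ Cart p φ) : p.IsFibered :=
  Functor.IsFibered.of_exists_isStronglyCartesian fun x V f => by
    obtain ⟨y, φ, hy, hφ, hc⟩ := h x V f
    haveI : p.IsHomLift f φ := IsHomLift.of_fac' p f φ hy rfl (hφ.trans (by simp))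
    exact ⟨y, φ, lift_of_cart f φ hc⟩

lemma cart_of_isIso {y x : 𝒳} (φ : y ⟶ x) [IsIso φ] : Cart p φ :=
  Functor.IsStronglyCartesian.of_isIso p (p.map φ) φ

lemma isIso_of_cart {y x : 𝒳} {φ : y ⟶ x} (h : Cart p φ) [IsIso (p.map φ)] : IsIso φ :=
  haveI : p.IsStronglyCartesian (p.map φ) φ := h
  Functor.IsStronglyCartesian.isIso_of_base_isIso p (p.map φ) φ

lemma cart_comp {z y x : 𝒳} {ψ : z ⟶ y} {φ : y ⟶ x} (hψ : Cart p ψ) (hφ : Cart p φ) :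
    Cart p (ψ ≫ φ) :=
  haveI : p.IsStronglyCartesian (p.map ψ) ψ := hψ
  haveI : p.IsStronglyCartesian (p.map φ) φ := hφ
  cart_of_lift (p.map ψ ≫ p.map φ) (ψ ≫ φ) inferInstance

lemma cart_of_grpd (hp : IsFibGrpd p) {y x : 𝒳} (φ : y ⟶ x) : Cart p φ := hp.isStronglyCartesian φ

lemma isFibered_of_grpd (hp : IsFibGrpd p) : p.IsFibered :=
  isFibered_of_lifts fun x V f => by
    obtain ⟨y, φ, h, hφ⟩ := exists_lift hp (x := x) f
    exact ⟨y, φ, h, hφ, cart_of_grpd hp φ⟩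

/-- Isomorphisms of the base lift in a fibred category. -/
lemma exists_iso_lift [p.IsFibered] {x : 𝒳} {V : C} (α : V ⟶ p.obj x) [IsIso α] :
    ∃ (y : 𝒳) (e : y ≅ x) (h : p.obj y = V), p.map e.hom = eqToHom h ≫ α := by
  obtain ⟨y, φ, h, hφ, hc⟩ := exists_cart_lift (p := p) α
  haveI : IsIso (p.map φ) := by rw [hφ]; infer_instance
  haveI := isIso_of_cart hc
  exact ⟨y, asIso φ, h, hφ⟩

lemma map_of_fiber {U : C} {a b : p.Fiber U} (φ : a ⟶ b) :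
    p.map φ.1 = eqToHom (a.2.trans b.2.symm) := by
  have := φ.2
  exact (IsHomLift.fac' p (𝟙 U) φ.1).trans (by simp)

/-- A morphism over an identity as a morphism of a fibre. -/
def fibHom {U : C} (a b : p.Fiber U) (φ : a.1 ⟶ b.1)
    (h : p.map φ = eqToHom (a.2.trans b.2.symm)) : a ⟶ b :=
  ⟨φ, IsHomLift.of_fac' p _ _ a.2 b.2 (h.trans (by simp))⟩

lemma map_inv_of_eqToHom {y x : 𝒳} (φ : y ⟶ x) [IsIso φ] {h : p.obj y = p.obj x}
    (e : p.map φ = eqToHom h) : p.map (inv φ) = eqToHom h.symm := by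
  rw [Functor.map_inv]
  apply IsIso.inv_eq_of_hom_inv_id
  rw [e]
  simp

end cart

section based

variable {𝒳 : BasedCategory.{v₂, u₂} C} {𝒴 : BasedCategory.{v₃, u₃} C} {𝒮 : BasedCategory.{v₄, u₄} C}

lemma map_app {F G : 𝒳 ⥤ᵇ 𝒴} (α : F ⟶ G) (a : 𝒳.obj) :
    𝒴.p.map (α.toNatTrans.app a) = eqToHom ((F.w_obj a).trans (G.w_obj a).symm) := by
  haveI := BasedNatTrans.isHomLift α (rfl : 𝒳.p.obj a = _)
  exact (IsHomLift.fac' 𝒴.p (𝟙 (𝒳.p.obj a)) (α.toNatTrans.app a)).trans (by simp)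

theorem isEquivOver_of_fullyFaithful (F : 𝒳 ⥤ᵇ 𝒴) [F.toFunctor.Full] [F.toFunctor.Faithful]
    (h : ∀ η : 𝒴.obj, ∃ (ξ : 𝒳.obj) (e : F.obj ξ ≅ η) (hξ : 𝒴.p.obj (F.obj ξ) = 𝒴.p.obj η),
      𝒴.p.map e.hom = eqToHom hξ) : IsEquivOver F := by
  choose ξ e hξ he using h
  have hei : ∀ η, 𝒴.p.map (e η).inv = eqToHom (hξ η).symm := fun η => by
    rw [← IsIso.Iso.inv_hom (e η)]
    exact map_inv_of_eqToHom _ (he η)
  let G : 𝒴 ⥤ᵇ 𝒳 :=
    { toFunctor :=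
        { obj := ξ
          map := fun {η η'} m => F.toFunctor.preimage ((e η).hom ≫ m ≫ (e η').inv)
          map_id := fun η => F.toFunctor.map_injective (by simp)
          map_comp := fun m m' => F.toFunctor.map_injective (by simp) }
      w := CategoryTheory.Functor.ext (fun η => (F.w_obj (ξ η)).symm.trans (hξ η)) (fun η η' m => by
        have h1 := map_map F (F.toFunctor.preimage ((e η).hom ≫ m ≫ (e η').inv))
        rw [Functor.map_preimage, Functor.map_comp, Functor.map_comp, he, hei] at h1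
        show 𝒳.p.map (F.toFunctor.preimage ((e η).hom ≫ m ≫ (e η').inv)) = _
        rw [← cancel_epi (eqToHom (F.w_obj (ξ η))), ← cancel_mono (eqToHom (F.w_obj (ξ η')).symm)]
        simp only [Category.assoc] at h1 ⊢
        rw [← h1]
        simp) }
  refine ⟨G, ⟨BasedNatIso.mkNatIso (NatIso.ofComponents (fun x => F.toFunctor.preimageIso (e (F.obj x)))
      (fun {x y} m => F.toFunctor.map_injective ?_)) ?_⟩,
    ⟨BasedNatIso.mkNatIso (NatIso.ofComponents (fun η => e η) (fun {η η'} m => ?_)) ?_⟩⟩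
  · show F.map (F.toFunctor.preimage ((e (F.obj x)).hom ≫ F.map m ≫ (e (F.obj y)).inv) ≫ _) = _
    simp [BasedFunctor.id]
  · intro x
    have h1 := map_map F (F.toFunctor.preimage (e (F.obj x)).hom)
    rw [Functor.map_preimage, he] at h1
    refine IsHomLift.of_fac' 𝒳.p _ _ ((F.w_obj _).symm.trans ((hξ _).trans (F.w_obj x))) rfl ?_
    show 𝒳.p.map (F.toFunctor.preimage (e (F.obj x)).hom) = _
    rw [← cancel_epi (eqToHom (F.w_obj (ξ (F.obj x)))), ← cancel_mono (eqToHom (F.w_obj x).symm)]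
    simp only [Category.assoc] at h1 ⊢
    refine h1.symm.trans ?_
    simp [BasedFunctor.id]
  · show F.map (F.toFunctor.preimage ((e η).hom ≫ m ≫ (e η').inv)) ≫ _ = _
    simp [BasedFunctor.id]
  · intro η
    exact IsHomLift.of_fac' 𝒴.p _ _ (hξ η) rfl ((he η).trans (by simp))

theorem isEquivOver_data {F : 𝒳 ⥤ᵇ 𝒴} (hF : IsEquivOver F) :
    F.toFunctor.IsEquivalence ∧ ∀ η : 𝒴.obj, ∃ (ξ : 𝒳.obj) (e : F.obj ξ ≅ η)
      (hξ : 𝒴.p.obj (F.obj ξ) = 𝒴.p.obj η), 𝒴.p.map e.hom = eqToHom hξ := by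
  obtain ⟨G, ⟨e₁⟩, ⟨e₂⟩⟩ := hF
  let e : 𝒳.obj ≌ 𝒴.obj := CategoryTheory.Equivalence.mk F.toFunctor G.toFunctor
    ((BasedNatTrans.forgetful _ _).mapIso e₁).symm ((BasedNatTrans.forgetful _ _).mapIso e₂)
  refine ⟨e.isEquivalence_functor, fun η => ?_⟩
  exact ⟨G.obj η, ((BasedNatTrans.forgetful _ _).mapIso e₂).app η,
    (F.w_obj _).trans (G.w_obj η), map_app e₂.hom η⟩

/-- An equivalence of categories out of a category with iso lifts is an equivalence over the base. -/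
theorem isEquivOver_of_isEquivalence (F : 𝒳 ⥤ᵇ 𝒴) [F.toFunctor.IsEquivalence]
    (h : ∀ (x : 𝒳.obj) (V : C) (α : V ⟶ 𝒳.p.obj x), IsIso α →
      ∃ (y : 𝒳.obj) (e : y ≅ x) (hy : 𝒳.p.obj y = V), 𝒳.p.map e.hom = eqToHom hy ≫ α) :
    IsEquivOver F := by
  refine isEquivOver_of_fullyFaithful F fun η => ?_
  let ξ := F.toFunctor.objPreimage η
  let e := F.toFunctor.objObjPreimageIso η
  obtain ⟨y, d, hy, hd⟩ := h ξ _ (𝒴.p.map e.inv ≫ eqToHom (F.w_obj ξ)) inferInstance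
  refine ⟨y, F.toFunctor.mapIso d ≪≫ e, (F.w_obj y).trans hy, ?_⟩
  show 𝒴.p.map (F.map d.hom ≫ e.hom) = _
  rw [Functor.map_comp, map_map, hd]
  simp [ξ]

lemma cart_fp {F : 𝒳 ⥤ᵇ 𝒮} {G : 𝒴 ⥤ᵇ 𝒮} {o' o : (fp F G).obj} (φ : o' ⟶ o)
    (h₁ : Cart 𝒳.p φ.hom.fst) (h₂ : Cart 𝒴.p φ.hom.snd) (h₃ : Cart 𝒮.p (G.map φ.hom.snd)) :
    Cart (fp F G).p φ := by
  refine cart_mk φ fun {o''} ψ g hg => ?_
  obtain ⟨χ₁, ⟨hχ₁, c₁⟩, u₁⟩ := existsUnique_of_cart h₁ ψ.hom.fst g hg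
  have h2 : (eqToHom (fp_obj_eq o'') ≫ g ≫ eqToHom (fp_obj_eq o').symm) ≫ 𝒴.p.map φ.hom.snd =
      𝒴.p.map ψ.hom.snd := by
    have hg' : g ≫ 𝒳.p.map φ.hom.fst = 𝒳.p.map ψ.hom.fst := hg
    simp [map_snd, reassoc_of% hg']
  obtain ⟨χ₂, ⟨hχ₂, c₂⟩, u₂⟩ := existsUnique_of_cart h₂ ψ.hom.snd _ h2
  have w : F.map χ₁ ≫ o'.obj.iso.hom = o''.obj.iso.hom ≫ G.map χ₂ := by
    refine cancel_of_cart h₃ ?_ ?_
    · obtain ⟨e', he'⟩ := map_iso_hom o'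
      obtain ⟨e'', he''⟩ := map_iso_hom o''
      simp [map_map, he', he'', hχ₁, hχ₂]
    · rw [Category.assoc, Category.assoc, ← Functor.map_comp, c₂, ← ψ.hom.w, ← c₁,
        Functor.map_comp, Category.assoc, φ.hom.w]
  refine ⟨ObjectProperty.homMk ⟨χ₁, χ₂, w⟩, ⟨hχ₁, ?_⟩, fun χ hχ => ?_⟩
  · exact ObjectProperty.hom_ext _ (CategoricalPullback.hom_ext c₁ c₂)
  · have a : χ.hom.fst = χ₁ := u₁ _ ⟨hχ.1, by rw [← hχ.2]; rfl⟩
    have b : χ.hom.snd = χ₂ := u₂ _ ⟨by rw [map_snd, a, hχ₁], by rw [← hχ.2]; rfl⟩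
    exact ObjectProperty.hom_ext _ (CategoricalPullback.hom_ext a b)

theorem isFibered_fp [𝒳.p.IsFibered] [𝒴.p.IsFibered] (F : 𝒳 ⥤ᵇ 𝒮) (G : 𝒴 ⥤ᵇ 𝒮)
    (hF : ∀ {a b : 𝒳.obj} (φ : a ⟶ b), Cart 𝒳.p φ → Cart 𝒮.p (F.map φ))
    (hG : ∀ {a b : 𝒴.obj} (φ : a ⟶ b), Cart 𝒴.p φ → Cart 𝒮.p (G.map φ)) :
    (fp F G).p.IsFibered := by
  refine isFibered_of_lifts fun o V f => ?_
  obtain ⟨x, φ, hx, hφ, cφ⟩ := exists_cart_lift (p := 𝒳.p) (x := o.obj.fst) f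
  obtain ⟨y, ψ, hy, hψ, cψ⟩ := exists_cart_lift (p := 𝒴.p) (x := o.obj.snd)
    (f ≫ eqToHom (fp_obj_eq o).symm)
  obtain ⟨h, he⟩ := map_iso_hom o
  have h' : 𝒮.p.obj (F.obj x) = 𝒮.p.obj (G.obj y) :=
    (F.w_obj x).trans (hx.trans (hy.symm.trans (G.w_obj y).symm))
  obtain ⟨χ, ⟨hχ, hc⟩, -⟩ := existsUnique_of_cart (hG _ cψ) (F.map φ ≫ o.obj.iso.hom) (eqToHom h')
    (by simp [map_map, he, hφ, hψ])
  obtain ⟨χ', ⟨hχ', hc'⟩, -⟩ := existsUnique_of_cart (hF _ cφ) (G.map ψ ≫ o.obj.iso.inv)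
    (eqToHom h'.symm) (by
      have hi : 𝒮.p.map o.obj.iso.inv = eqToHom h.symm := by
        rw [← IsIso.Iso.inv_hom o.obj.iso]
        exact map_inv_of_eqToHom _ he
      simp [map_map, hi, hφ, hψ])
  let χi : F.obj x ≅ G.obj y :=
    ⟨χ, χ', cancel_of_cart (hF _ cφ) (by simp [hχ, hχ'])
        (by rw [Category.assoc, hc', ← Category.assoc, hc]; simp),
      cancel_of_cart (hG _ cψ) (by simp [hχ, hχ'])
        (by rw [Category.assoc, hc, ← Category.assoc, hc']; simp)⟩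
  exact ⟨⟨⟨x, y, χi⟩, fpProp_of_map F G _ h' hχ⟩, ObjectProperty.homMk ⟨φ, ψ, hc.symm⟩,
    hx, hφ, cart_fp _ cφ cψ (hG _ cψ)⟩

end based

end Groth.Agent.FibCatRep
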