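import Groth.Prelude.Def_FibCat2
import Mathlib.CategoryTheory.Limits.Shapes.IsTerminal
import Mathlib.CategoryTheory.Limits.Preserves.Shapes.Terminal
import Mathlib.CategoryTheory.Adjunction.Limits

/-!
Categories fibred in groupoids: elementary calculus, fibre products, and representability as the
existence of a terminal object.
-/

set_option autoImplicit false
set_option backward.isDefEq.respectTransparency false
set_option linter.style.haveILetI false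
universe v u v₂ u₂ v₃ u₃ v₄ u₄

namespace Groth.Agent.FibCatRep

open CategoryTheory CategoryTheory.Limits FibCat

variable {C : Type u} [Category.{v} C]

section grpd

variable {𝒳 : Type u₂} [Category.{v₂} 𝒳] {p : 𝒳 ⥤ C} (hp : IsFibGrpd p)
include hp

lemma exists_lift {x : 𝒳} {V : C} (f : V ⟶ p.obj x) :
    ∃ (y : 𝒳) (φ : y ⟶ x) (h : p.obj y = V), p.map φ = eqToHom h ≫ f := by
  obtain ⟨y, φ, hφ⟩ := hp.exists_lift f
  exact ⟨y, φ, IsHomLift.domain_eq p f φ, (IsHomLift.fac' p f φ).trans (by simp)⟩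

lemma existsUnique_cart {z y x : 𝒳} (φ : y ⟶ x) (ψ : z ⟶ x) (g : p.obj z ⟶ p.obj y)
    (h : g ≫ p.map φ = p.map ψ) : ∃! χ : z ⟶ y, p.map χ = g ∧ χ ≫ φ = ψ := by
  haveI := hp.isStronglyCartesian φ
  haveI : p.IsHomLift (g ≫ p.map φ) ψ := by rw [h]; infer_instance
  obtain ⟨χ, ⟨hχ, hc⟩, hu⟩ :=
    Functor.IsStronglyCartesian.universal_property' (p := p) (f := p.map φ) (φ := φ) g ψ
  exact ⟨χ, ⟨(IsHomLift.eq_of_isHomLift p g χ).symm, hc⟩,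
    fun χ' h' => hu χ' ⟨by rw [← h'.1]; infer_instance, h'.2⟩⟩

lemma cancel {z y x : 𝒳} (φ : y ⟶ x) {χ χ' : z ⟶ y} (h : p.map χ = p.map χ')
    (h' : χ ≫ φ = χ' ≫ φ) : χ = χ' :=
  (existsUnique_cart hp φ (χ' ≫ φ) (p.map χ') (p.map_comp _ _).symm).unique ⟨h, h'⟩ ⟨rfl, rfl⟩

lemma isIso_of_map {y x : 𝒳} (φ : y ⟶ x) [IsIso (p.map φ)] : IsIso φ := by
  obtain ⟨χ, ⟨hχ, hc⟩, -⟩ := existsUnique_cart hp φ (𝟙 x) (inv (p.map φ)) (by simp)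
  exact ⟨χ, cancel hp φ (by simp [hχ]) (by simp [hc]), hc⟩

end grpd

lemma isFibGrpd_mk {𝒳 : Type u₂} [Category.{v₂} 𝒳] {p : 𝒳 ⥤ C}
    (h₁ : ∀ {x : 𝒳} {V : C} (f : V ⟶ p.obj x),
      ∃ (y : 𝒳) (φ : y ⟶ x) (h : p.obj y = V), p.map φ = eqToHom h ≫ f)
    (h₂ : ∀ {z y x : 𝒳} (φ : y ⟶ x) (ψ : z ⟶ x) (g : p.obj z ⟶ p.obj y),
      g ≫ p.map φ = p.map ψ → ∃! χ : z ⟶ y, p.map χ = g ∧ χ ≫ φ = ψ) : IsFibGrpd p where
  exists_lift {x V} f := by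
    obtain ⟨y, φ, h, hφ⟩ := h₁ f
    exact ⟨y, φ, IsHomLift.of_fac' p f φ h rfl (hφ.trans (by simp))⟩
  isStronglyCartesian {y x} φ :=
    { universal_property' := fun {a'} g ψ _ => by
        obtain ⟨χ, ⟨hχ, hc⟩, hu⟩ := h₂ φ ψ g (IsHomLift.eq_of_isHomLift p _ ψ)
        exact ⟨χ, ⟨by rw [← hχ]; infer_instance, hc⟩,
          fun χ' ⟨h', hc'⟩ => hu χ' ⟨(IsHomLift.eq_of_isHomLift p g χ').symm, hc'⟩⟩ }

lemma isFibGrpd_selfOver : IsFibGrpd (selfOver C).p :=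
  isFibGrpd_mk (fun {x V} f => ⟨V, f, rfl, (Category.id_comp f).symm⟩)
    (fun φ ψ g h => ⟨g, ⟨rfl, h⟩, fun χ hχ => hχ.1⟩)

lemma isFibGrpd_overCat (U : C) : IsFibGrpd (overCat U).p :=
  isFibGrpd_mk
    (fun {x V} f => ⟨Over.mk (f ≫ x.hom), Over.homMk f rfl, rfl, (Category.id_comp f).symm⟩)
    (fun {z y x} φ ψ g h => ⟨Over.homMk g (by
        have h1 : φ.left ≫ x.hom = y.hom := Over.w φ
        have h2 : ψ.left ≫ x.hom = z.hom := Over.w ψ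
        have h3 : g ≫ φ.left = ψ.left := h
        rw [← h1, ← Category.assoc, h3, h2]),
      ⟨rfl, Over.OverMorphism.ext h⟩, fun χ hχ => Over.OverMorphism.ext hχ.1⟩)

section based

variable {𝒳 : BasedCategory.{v₂, u₂} C} {𝒴 : BasedCategory.{v₃, u₃} C} {𝒮 : BasedCategory.{v₄, u₄} C}

lemma map_map (F : 𝒳 ⥤ᵇ 𝒮) {a b : 𝒳.obj} (φ : a ⟶ b) :
    𝒮.p.map (F.map φ) = eqToHom (F.w_obj a) ≫ 𝒳.p.map φ ≫ eqToHom (F.w_obj b).symm :=
  Functor.congr_hom F.w φ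

lemma map_iso_hom {F : 𝒳 ⥤ᵇ 𝒮} {G : 𝒴 ⥤ᵇ 𝒮} (o : (fp F G).obj) :
    ∃ h : 𝒮.p.obj (F.obj o.obj.fst) = 𝒮.p.obj (G.obj o.obj.snd),
      𝒮.p.map o.obj.iso.hom = eqToHom h := by
  have h : 𝒮.p.IsHomLift (𝟙 (𝒳.p.obj o.obj.fst)) o.obj.iso.hom := o.property
  exact ⟨(IsHomLift.domain_eq 𝒮.p (𝟙 (𝒳.p.obj o.obj.fst)) o.obj.iso.hom).trans
      (IsHomLift.codomain_eq 𝒮.p (𝟙 (𝒳.p.obj o.obj.fst)) o.obj.iso.hom).symm,
    (IsHomLift.fac' 𝒮.p (𝟙 (𝒳.p.obj o.obj.fst)) o.obj.iso.hom).trans (by simp)⟩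

lemma fpProp_of_map (F : 𝒳 ⥤ᵇ 𝒮) (G : 𝒴 ⥤ᵇ 𝒮) (o : CategoricalPullback F.toFunctor G.toFunctor)
    (h : 𝒮.p.obj (F.obj o.fst) = 𝒮.p.obj (G.obj o.snd)) (e : 𝒮.p.map o.iso.hom = eqToHom h) :
    fpProp F G o :=
  IsHomLift.of_fac' 𝒮.p _ _ (F.w_obj o.fst) (h.symm.trans (F.w_obj o.fst)) (e.trans (by simp))

lemma map_snd {F : 𝒳 ⥤ᵇ 𝒮} {G : 𝒴 ⥤ᵇ 𝒮} {o o' : (fp F G).obj} (m : o ⟶ o') :
    𝒴.p.map m.hom.snd = eqToHom ((fpSnd F G).w_obj o) ≫ 𝒳.p.map m.hom.fst ≫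
      eqToHom ((fpSnd F G).w_obj o').symm :=
  Functor.congr_hom (fpSnd F G).w m

lemma fp_obj_eq {F : 𝒳 ⥤ᵇ 𝒮} {G : 𝒴 ⥤ᵇ 𝒮} (o : (fp F G).obj) :
    𝒴.p.obj o.obj.snd = 𝒳.p.obj o.obj.fst :=
  (fpSnd F G).w_obj o

theorem isFibGrpd_fp (hX : IsFibGrpd 𝒳.p) (hY : IsFibGrpd 𝒴.p) (hS : IsFibGrpd 𝒮.p)
    (F : 𝒳 ⥤ᵇ 𝒮) (G : 𝒴 ⥤ᵇ 𝒮) : IsFibGrpd (fp F G).p := by
  refine isFibGrpd_mk (fun {o V} f => ?_) (fun {o'' o' o} φ ψ g hg => ?_)
  · obtain ⟨x, φ, hx, hφ⟩ := exists_lift hX (x := o.obj.fst) f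
    obtain ⟨y, ψ, hy, hψ⟩ := exists_lift hY (x := o.obj.snd) (f ≫ eqToHom (fp_obj_eq o).symm)
    obtain ⟨h, he⟩ := map_iso_hom o
    have h' : 𝒮.p.obj (F.obj x) = 𝒮.p.obj (G.obj y) :=
      (F.w_obj x).trans (hx.trans (hy.symm.trans (G.w_obj y).symm))
    obtain ⟨χ, ⟨hχ, hc⟩, -⟩ := existsUnique_cart hS (G.map ψ) (F.map φ ≫ o.obj.iso.hom) (eqToHom h')
      (by simp [map_map, he, hφ, hψ])
    have : IsIso (𝒮.p.map χ) := by rw [hχ]; infer_instance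
    haveI := isIso_of_map hS χ
    exact ⟨⟨⟨x, y, asIso χ⟩, fpProp_of_map F G _ h' hχ⟩, ObjectProperty.homMk ⟨φ, ψ, hc.symm⟩,
      hx, hφ⟩
  · obtain ⟨χ₁, ⟨h₁, c₁⟩, u₁⟩ := existsUnique_cart hX φ.hom.fst ψ.hom.fst g hg
    have h2 : (eqToHom (fp_obj_eq o'') ≫ g ≫ eqToHom (fp_obj_eq o').symm) ≫ 𝒴.p.map φ.hom.snd =
        𝒴.p.map ψ.hom.snd := by
      have hg' : g ≫ 𝒳.p.map φ.hom.fst = 𝒳.p.map ψ.hom.fst := hg
      simp [map_snd, reassoc_of% hg']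
    obtain ⟨χ₂, ⟨h₂, c₂⟩, u₂⟩ := existsUnique_cart hY φ.hom.snd ψ.hom.snd _ h2
    have w : F.map χ₁ ≫ o'.obj.iso.hom = o''.obj.iso.hom ≫ G.map χ₂ := by
      refine cancel hS (G.map φ.hom.snd) ?_ ?_
      · obtain ⟨e', he'⟩ := map_iso_hom o'
        obtain ⟨e'', he''⟩ := map_iso_hom o''
        simp [map_map, he', he'', h₁, h₂]
      · rw [Category.assoc, Category.assoc, ← Functor.map_comp, c₂, ← ψ.hom.w, ← c₁,
          Functor.map_comp, Category.assoc, φ.hom.w]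
    refine ⟨ObjectProperty.homMk ⟨χ₁, χ₂, w⟩, ⟨h₁, ?_⟩, fun χ hχ => ?_⟩
    · exact ObjectProperty.hom_ext _ (CategoricalPullback.hom_ext c₁ c₂)
    · have a : χ.hom.fst = χ₁ := u₁ _ ⟨hχ.1, by
        rw [← hχ.2]; rfl⟩
      have b : χ.hom.snd = χ₂ := u₂ _ ⟨by
        rw [map_snd, a, h₁], by rw [← hχ.2]; rfl⟩
      exact ObjectProperty.hom_ext _ (CategoricalPullback.hom_ext a b)

theorem hasTerminal_of_isRepresentable (h : IsRepresentable 𝒳) :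
    ∃ w : 𝒳.obj, ∀ y, Nonempty (y ⟶ w) ∧ ∀ m m' : y ⟶ w, m = m' := by
  obtain ⟨U, F, G, ⟨e₁⟩, ⟨e₂⟩⟩ := h
  let e : 𝒳.obj ≌ Over U := CategoryTheory.Equivalence.mk F.toFunctor G.toFunctor
    ((BasedNatTrans.forgetful _ _).mapIso e₁).symm ((BasedNatTrans.forgetful _ _).mapIso e₂)
  have ht : IsTerminal (e.inverse.obj (Over.mk (𝟙 U))) :=
    IsTerminal.isTerminalObj e.inverse _ Over.mkIdTerminal
  exact ⟨_, fun y => ⟨⟨ht.from y⟩, fun m m' => ht.hom_ext m m'⟩⟩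

theorem isRepresentable_of_terminal (hX : IsFibGrpd 𝒳.p) (w : 𝒳.obj)
    (hw : ∀ y, Nonempty (y ⟶ w) ∧ ∀ m m' : y ⟶ w, m = m') : IsRepresentable 𝒳 := by
  let t : ∀ y, y ⟶ w := fun y => (hw y).1.some
  have hext : ∀ {y y' : 𝒳.obj} (m m' : y ⟶ y'), 𝒳.p.map m = 𝒳.p.map m' → m = m' :=
    fun m m' h => cancel hX (t _) h ((hw _).2 _ _)
  have hlift : ∀ {y y' : 𝒳.obj} (g : 𝒳.p.obj y ⟶ 𝒳.p.obj y'),
      g ≫ 𝒳.p.map (t y') = 𝒳.p.map (t y) → ∃ m : y ⟶ y', 𝒳.p.map m = g := fun g h => by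
    obtain ⟨m, ⟨hm, -⟩, -⟩ := existsUnique_cart hX (t _) (t _) g h
    exact ⟨m, hm⟩
  let W := 𝒳.p.obj w
  let F : 𝒳 ⥤ᵇ overCat W :=
    { toFunctor :=
        { obj := fun y => Over.mk (𝒳.p.map (t y))
          map := fun {y y'} m => Over.homMk (𝒳.p.map m) (by
            show 𝒳.p.map m ≫ 𝒳.p.map (t y') = 𝒳.p.map (t y)
            rw [← Functor.map_comp, (hw y).2 (m ≫ t y') (t y)])
          map_id := fun y => Over.OverMorphism.ext (𝒳.p.map_id y)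
          map_comp := fun m m' => Over.OverMorphism.ext (𝒳.p.map_comp m m') }
      w := rfl }
  have hobj : ∀ u : Over W, ∃ (y : 𝒳.obj) (h : 𝒳.p.obj y = u.left),
      𝒳.p.map (t y) = eqToHom h ≫ u.hom := fun u => by
    obtain ⟨y, φ, h, hφ⟩ := exists_lift hX (x := w) u.hom
    exact ⟨y, h, (hw y).2 φ (t y) ▸ hφ⟩
  choose yo yh yφ using hobj
  have hmap : ∀ {u u' : Over W} (m : u ⟶ u'), ∃ n : yo u ⟶ yo u',
      𝒳.p.map n = eqToHom (yh u) ≫ m.left ≫ eqToHom (yh u').symm := fun {u u'} m => by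
    refine hlift _ ?_
    rw [yφ, yφ]
    simp
  let G : overCat W ⥤ᵇ 𝒳 :=
    { toFunctor :=
        { obj := yo
          map := fun m => (hmap m).choose
          map_id := fun u => hext _ _ (by
            rw [(hmap (𝟙 u)).choose_spec, show Over.Hom.left (𝟙 u) = 𝟙 u.left from rfl]; simp)
          map_comp := fun m m' => hext _ _ (by
            rw [(hmap (m ≫ m')).choose_spec, Functor.map_comp, (hmap m).choose_spec,
              (hmap m').choose_spec]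
            simp) }
      w := CategoryTheory.Functor.ext yh (fun u u' m => (hmap m).choose_spec) }
  have hG : ∀ {u u' : Over W} (m : u ⟶ u'),
      𝒳.p.map (G.map m) = eqToHom (yh u) ≫ m.left ≫ eqToHom (yh u').symm :=
    fun m => (hmap m).choose_spec
  have hη : ∀ y, ∃ m : yo (F.obj y) ⟶ y, 𝒳.p.map m = eqToHom (yh (F.obj y)) := fun y =>
    hlift _ (yφ (F.obj y)).symm
  choose η hη using hη
  have hiso : ∀ y, IsIso (η y) := fun y =>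
    haveI : IsIso (𝒳.p.map (η y)) := by rw [hη]; infer_instance
    isIso_of_map hX _
  let e₁ : BasedFunctor.comp F G ≅ BasedFunctor.id 𝒳 :=
    BasedNatIso.mkNatIso
      (NatIso.ofComponents (fun y => @asIso _ _ _ _ (η y) (hiso y)) fun {y y'} m => hext _ _ (by
        show 𝒳.p.map (G.map (F.map m) ≫ η y') = 𝒳.p.map (η y ≫ m)
        rw [Functor.map_comp, Functor.map_comp, hG, hη, hη, Category.assoc, Category.assoc,
          eqToHom_trans, eqToHom_refl, Category.comp_id]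
        rfl))
      fun y => IsHomLift.of_fac' 𝒳.p _ _ (yh (F.obj y)) rfl ((hη y).trans (by simp))
  let e₂ : BasedFunctor.comp G F ≅ BasedFunctor.id (overCat W) :=
    BasedNatIso.mkNatIso
      (NatIso.ofComponents (fun u => Over.isoMk (eqToIso (yh u)) (yφ u).symm) fun {u u'} m =>
        Over.OverMorphism.ext (by
          show 𝒳.p.map (G.map m) ≫ eqToHom (yh u') = eqToHom (yh u) ≫ m.left
          rw [hG]
          simp))
      fun u => IsHomLift.of_fac' (overCat W).p (𝟙 _) _ (yh u) rfl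
        (show eqToHom (yh u) = _ by simp)
  exact ⟨W, F, G, ⟨e₁⟩, ⟨e₂⟩⟩

theorem isRepresentable_iff_terminal (hX : IsFibGrpd 𝒳.p) :
    IsRepresentable 𝒳 ↔ ∃ w : 𝒳.obj, ∀ y, Nonempty (y ⟶ w) ∧ ∀ m m' : y ⟶ w, m = m' :=
  ⟨hasTerminal_of_isRepresentable, fun ⟨w, hw⟩ => isRepresentable_of_terminal hX w hw⟩

end based

end Groth.Agent.FibCatRep
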