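import Groth.Agent.FibCatRep.Basic
import Mathlib.CategoryTheory.Limits.Shapes.BinaryProducts
import Mathlib.CategoryTheory.Limits.Shapes.Pullback.HasPullback

/-!
The diagonal is representable iff every functor out of a slice is.
-/

set_option autoImplicit false
set_option backward.isDefEq.respectTransparency false
set_option linter.style.haveILetI false
universe v u v₂ u₂

namespace Groth.Agent.FibCatRep

open CategoryTheory CategoryTheory.Limits FibCat

variable {C : Type u} [Category.{v} C] {𝒮 : BasedCategory.{v₂, u₂} C}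

/-- `Over.map` as a functor over `C` -/
def overMap {U V : C} (f : U ⟶ V) : overCat U ⥤ᵇ overCat V where
  toFunctor := Over.map f
  w := rfl

lemma map_over {U : C} (F : overCat U ⥤ᵇ 𝒮) {z z' : Over U} (φ : z ⟶ z') :
    𝒮.p.map (F.map φ) = eqToHom (F.w_obj z) ≫ φ.left ≫ eqToHom (F.w_obj z').symm :=
  map_map F φ

lemma left_eq {U V : C} {a : overCat U ⥤ᵇ 𝒮} {b : overCat V ⥤ᵇ 𝒮} {o o' : (fp a b).obj}
    (m : o ⟶ o') : m.hom.snd.left =
      eqToHom (fp_obj_eq o) ≫ m.hom.fst.left ≫ eqToHom (fp_obj_eq o').symm :=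
  map_snd m

theorem isRepresentable1_of_diag [HasBinaryProducts C] (hS : IsFibGrpd 𝒮.p)
    (h : IsRepresentable1 (diag (toSelf 𝒮))) (U : C) (G : overCat U ⥤ᵇ 𝒮) :
    IsRepresentable1 G := by
  intro V G'
  let a := BasedFunctor.comp (overMap (prod.fst : U ⨯ V ⟶ U)) G
  let b := BasedFunctor.comp (overMap (prod.snd : U ⨯ V ⟶ V)) G'
  let e : BasedFunctor.comp a (toSelf 𝒮) ≅ BasedFunctor.comp b (toSelf 𝒮) :=
    BasedNatIso.mkNatIso
      (NatIso.ofComponents (fun z => eqToIso ((a.w_obj z).trans (b.w_obj z).symm)) fun {z z'} m => by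
        show 𝒮.p.map (a.map m) ≫ eqToHom ((a.w_obj z').trans (b.w_obj z').symm) =
          eqToHom ((a.w_obj z).trans (b.w_obj z).symm) ≫ 𝒮.p.map (b.map m)
        rw [map_over a, map_over b]
        simp)
      fun z => IsHomLift.of_fac' (selfOver C).p (𝟙 _) _ (a.w_obj z) (b.w_obj z)
        (show eqToHom ((a.w_obj z).trans (b.w_obj z).symm) =
          eqToHom (a.w_obj z) ≫ 𝟙 z.left ≫ eqToHom (b.w_obj z).symm from
          ((congrArg (eqToHom (a.w_obj z) ≫ ·) (Category.id_comp _)).trans (eqToHom_trans _ _)).symm)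
  obtain ⟨o₀, ho₀⟩ := hasTerminal_of_isRepresentable (h (U ⨯ V) (fpLift a b e))
  let u₀ : Over (U ⨯ V) := o₀.obj.fst
  -- the two isomorphisms of the universal object
  have hv : ∀ {z : Over (U ⨯ V)} {x : 𝒮.obj} (i : (fpLift a b e).obj z ≅ (diag (toSelf 𝒮)).obj x)
      (_ : fpProp (fpLift a b e) (diag (toSelf 𝒮)) ⟨z, x, i⟩),
      ∃ (h₁ : 𝒮.p.obj (a.obj z) = 𝒮.p.obj x) (h₂ : 𝒮.p.obj (b.obj z) = 𝒮.p.obj x),
        𝒮.p.map i.hom.hom.fst = eqToHom h₁ ∧ 𝒮.p.map i.hom.hom.snd = eqToHom h₂ := by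
    intro z x i hi
    obtain ⟨h₁, he₁⟩ := map_iso_hom (F := fpLift a b e) (G := diag (toSelf 𝒮)) ⟨⟨z, x, i⟩, hi⟩
    change 𝒮.p.map i.hom.hom.fst = eqToHom _ at he₁
    refine ⟨h₁, (b.w_obj z).trans ((a.w_obj z).symm.trans h₁), he₁, ?_⟩
    rw [map_snd i.hom, he₁, eqToHom_trans, eqToHom_trans]
  obtain ⟨k₁, k₂, hk₁, hk₂⟩ := hv o₀.obj.iso o₀.property
  let i₁ : a.obj u₀ ≅ o₀.obj.snd := ((fpFst (toSelf 𝒮) (toSelf 𝒮)).toFunctor).mapIso o₀.obj.iso
  let i₂ : b.obj u₀ ≅ o₀.obj.snd := ((fpSnd (toSelf 𝒮) (toSelf 𝒮)).toFunctor).mapIso o₀.obj.iso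
  let φ₀ : G'.obj ((Over.map prod.snd).obj u₀) ≅ G.obj ((Over.map prod.fst).obj u₀) := i₂ ≪≫ i₁.symm
  have hk : 𝒮.p.obj (b.obj u₀) = 𝒮.p.obj (a.obj u₀) := k₂.trans k₁.symm
  have hφ₀ : 𝒮.p.map φ₀.hom = eqToHom hk := by
    show 𝒮.p.map (o₀.obj.iso.hom.hom.snd ≫ i₁.inv) = _
    rw [Functor.map_comp, hk₂]
    have : 𝒮.p.map i₁.inv = eqToHom k₁.symm := by
      rw [← cancel_epi (𝒮.p.map i₁.hom), ← Functor.map_comp, Iso.hom_inv_id]
      show _ = 𝒮.p.map o₀.obj.iso.hom.hom.fst ≫ _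
      rw [hk₁, eqToHom_trans, eqToHom_refl, 𝒮.p.map_id]
      rfl
    rw [this, eqToHom_trans]
  let c₀ : (fp G' G).obj := ⟨⟨(Over.map prod.snd).obj u₀, (Over.map prod.fst).obj u₀, φ₀⟩,
    fpProp_of_map G' G _ hk hφ₀⟩
  refine isRepresentable_of_terminal
    (isFibGrpd_fp (isFibGrpd_overCat V) (isFibGrpd_overCat U) hS G' G) c₀ fun o => ?_
  let v : Over V := o.obj.fst
  let u : Over U := o.obj.snd
  have hT : u.left = v.left := fp_obj_eq o
  let z : Over (U ⨯ V) := Over.mk (prod.lift (eqToHom hT.symm ≫ u.hom) v.hom)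
  let α : (Over.map prod.fst).obj z ≅ u := Over.isoMk (eqToIso hT.symm) (by simp [z])
  let β : (Over.map prod.snd).obj z ≅ v := Over.isoMk (Iso.refl _) (by simp [z])
  let ψ : b.obj z ≅ a.obj z :=
    G'.toFunctor.mapIso β ≪≫ o.obj.iso ≪≫ G.toFunctor.mapIso α.symm
  have hψ : 𝒮.p.map ψ.hom = eqToHom ((b.w_obj z).trans (a.w_obj z).symm) := by
    obtain ⟨h₁, he⟩ := map_iso_hom o
    show 𝒮.p.map (G'.map β.hom ≫ o.obj.iso.hom ≫ G.map α.inv) = _
    rw [Functor.map_comp, Functor.map_comp, map_over G', map_over G, he]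
    simp [α, β]
    exact (congrArg (eqToHom _ ≫ ·) (Category.id_comp _)).trans (eqToHom_trans _ _)
  let w : (fpLift a b e).obj z ≅ (diag (toSelf 𝒮)).obj (a.obj z) :=
    ObjectProperty.isoMk _ (CategoricalPullback.mkIso (Iso.refl _) ψ (by
      show 𝒮.p.map (𝟙 (a.obj z)) ≫ 𝟙 (𝒮.p.obj (a.obj z)) =
        eqToHom ((a.w_obj z).trans (b.w_obj z).symm) ≫ 𝒮.p.map ψ.hom
      rw [hψ, eqToHom_trans, eqToHom_refl, 𝒮.p.map_id]
      simp))
  let o' : (fp (fpLift a b e) (diag (toSelf 𝒮))).obj :=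
    ⟨⟨z, a.obj z, w⟩, fpProp_of_map _ _ _ rfl (𝒮.p.map_id _)⟩
  obtain ⟨⟨M⟩, huniq⟩ := ho₀ o'
  constructor
  · let m : z ⟶ u₀ := M.hom.fst
    have e₁ : a.map m ≫ i₁.hom = 𝟙 (a.obj z) ≫ M.hom.snd :=
      congrArg (fun t => t.hom.fst) M.hom.w
    have e₂ : b.map m ≫ i₂.hom = ψ.hom ≫ M.hom.snd :=
      congrArg (fun t => t.hom.snd) M.hom.w
    rw [Category.id_comp] at e₁
    refine ⟨ObjectProperty.homMk ⟨β.inv ≫ (Over.map prod.snd).map m,
      α.inv ≫ (Over.map prod.fst).map m, ?_⟩⟩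
    show G'.map _ ≫ i₂.hom ≫ i₁.inv = o.obj.iso.hom ≫ G.map _
    rw [Functor.map_comp, Functor.map_comp, Category.assoc]
    show G'.map β.inv ≫ b.map m ≫ i₂.hom ≫ i₁.inv = _ ≫ G.map α.inv ≫ a.map m
    rw [reassoc_of% e₂, ← e₁]
    simp [ψ, ← Functor.map_comp_assoc]
  · intro m m'
    have conv : ∀ M₁ : o ⟶ c₀, ∃ N : o' ⟶ o₀, N.hom.fst.left = M₁.hom.fst.left := by
      intro M₁
      have hl : M₁.hom.snd.left = eqToHom hT ≫ M₁.hom.fst.left := by
        rw [left_eq M₁]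
        simp
      let n : z ⟶ u₀ := Over.homMk M₁.hom.fst.left (by
        refine prod.hom_ext ?_ ?_
        · have := Over.w M₁.hom.snd
          rw [hl] at this
          simp only [z, Over.mk_hom, prod.lift_fst, Category.assoc]
          rw [← this]
          simp [c₀]
        · have := Over.w M₁.hom.fst
          simp only [z, Over.mk_hom, prod.lift_snd, Category.assoc]
          exact this)
      have eu : α.hom ≫ M₁.hom.snd = (Over.map prod.fst).map n :=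
        Over.OverMorphism.ext (by
          show eqToHom hT.symm ≫ M₁.hom.snd.left = M₁.hom.fst.left
          simp [hl])
      have ev : β.hom ≫ M₁.hom.fst = (Over.map prod.snd).map n :=
        Over.OverMorphism.ext (Category.id_comp _)
      have hw : G'.map M₁.hom.fst ≫ i₂.hom ≫ i₁.inv = o.obj.iso.hom ≫ G.map M₁.hom.snd :=
        M₁.hom.w
      refine ⟨ObjectProperty.homMk ⟨n, a.map n ≫ i₁.hom, ObjectProperty.hom_ext _
        (CategoricalPullback.hom_ext (Category.id_comp _).symm ?_)⟩, rfl⟩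
      show b.map n ≫ i₂.hom = ψ.hom ≫ a.map n ≫ i₁.hom
      show G'.map ((Over.map prod.snd).map n) ≫ i₂.hom =
        ψ.hom ≫ G.map ((Over.map prod.fst).map n) ≫ i₁.hom
      rw [← eu, ← ev, ← cancel_mono i₁.inv]
      simp only [ψ, Functor.map_comp, Category.assoc, Iso.trans_hom, Functor.mapIso_hom,
        Iso.symm_hom, Iso.hom_inv_id, Category.comp_id]
      rw [hw]
      simp [← Functor.map_comp_assoc]
    obtain ⟨N, hN⟩ := conv m
    obtain ⟨N', hN'⟩ := conv m'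
    have hl : m.hom.fst.left = m'.hom.fst.left := by rw [← hN, ← hN', huniq N N']
    refine ObjectProperty.hom_ext _ (CategoricalPullback.hom_ext (Over.OverMorphism.ext hl)
      (Over.OverMorphism.ext ?_))
    rw [left_eq m, left_eq m', hl]

theorem isRepresentable1_diag_of_forall [HasBinaryProducts C] [HasPullbacks C] (hS : IsFibGrpd 𝒮.p)
    (h : ∀ (U : C) (G : overCat U ⥤ᵇ 𝒮), IsRepresentable1 G) :
    IsRepresentable1 (diag (toSelf 𝒮)) := by
  intro U H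
  let a := BasedFunctor.comp H (fpFst (toSelf 𝒮) (toSelf 𝒮))
  let b := BasedFunctor.comp H (fpSnd (toSelf 𝒮) (toSelf 𝒮))
  obtain ⟨c₀, hc₀⟩ := hasTerminal_of_isRepresentable (h U b U a)
  let u₀ : Over U := c₀.obj.fst
  let v₀ : Over U := c₀.obj.snd
  have h₀ : v₀.left = u₀.left := fp_obj_eq c₀
  let k : u₀.left ⟶ U ⨯ U := prod.lift u₀.hom (eqToHom h₀.symm ≫ v₀.hom)
  let d : U ⟶ U ⨯ U := prod.lift (𝟙 U) (𝟙 U)
  let uP : Over U := Over.mk (pullback.snd k d)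
  have he₁ : pullback.fst k d ≫ u₀.hom = pullback.snd k d := by
    simpa [k, d] using congrArg (· ≫ prod.fst) (pullback.condition (f := k) (g := d))
  have he₂ : pullback.fst k d ≫ eqToHom h₀.symm ≫ v₀.hom = pullback.snd k d := by
    simpa [k, d] using congrArg (· ≫ prod.snd) (pullback.condition (f := k) (g := d))
  let eu : uP ⟶ u₀ := Over.homMk (pullback.fst k d) he₁
  let ev : uP ⟶ v₀ := Over.homMk (pullback.fst k d ≫ eqToHom h₀.symm) ((Category.assoc _ _ _).trans he₂)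
  obtain ⟨q₀, hq₀⟩ := map_iso_hom c₀
  obtain ⟨χ, ⟨hχ, hc⟩, -⟩ := existsUnique_cart hS (b.map ev) (a.map eu ≫ c₀.obj.iso.hom)
    (eqToHom ((a.w_obj uP).trans (b.w_obj uP).symm)) (by
      simp [map_over, hq₀, eu, ev])
  haveI : IsIso (𝒮.p.map χ) := by rw [hχ]; infer_instance
  haveI := isIso_of_map hS χ
  have hobj : ∀ z : Over U, ∃ (h₁ : 𝒮.p.obj (a.obj z) = 𝒮.p.obj (b.obj z)),
      (H.obj z).obj.iso.hom = eqToHom h₁ := fun z => map_iso_hom (H.obj z)
  obtain ⟨hP₁, hP⟩ := hobj uP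
  let w : H.obj uP ≅ (diag (toSelf 𝒮)).obj (a.obj uP) :=
    ObjectProperty.isoMk _ (CategoricalPullback.mkIso (Iso.refl _) (asIso χ).symm (by
      show 𝒮.p.map (𝟙 _) ≫ 𝟙 _ = (H.obj uP).obj.iso.hom ≫ 𝒮.p.map (inv χ)
      rw [hP, Functor.map_inv, IsIso.eq_comp_inv, hχ]
      simp))
  let oP : (fp H (diag (toSelf 𝒮))).obj :=
    ⟨⟨uP, a.obj uP, w⟩, fpProp_of_map _ _ _ rfl (𝒮.p.map_id _)⟩
  refine isRepresentable_of_terminal (isFibGrpd_fp (isFibGrpd_overCat U) hS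
    (isFibGrpd_fp hS hS isFibGrpd_selfOver (toSelf 𝒮) (toSelf 𝒮)) H (diag (toSelf 𝒮))) oP
    fun o => ?_
  let z : Over U := o.obj.fst
  let x : 𝒮.obj := o.obj.snd
  let i₁ : a.obj z ≅ x := ((fpFst (toSelf 𝒮) (toSelf 𝒮)).toFunctor).mapIso o.obj.iso
  let i₂ : b.obj z ≅ x := ((fpSnd (toSelf 𝒮) (toSelf 𝒮)).toFunctor).mapIso o.obj.iso
  obtain ⟨q, hq⟩ := map_iso_hom o
  change 𝒮.p.map i₁.hom = eqToHom _ at hq
  let θ : a.obj z ≅ b.obj z := i₁ ≪≫ i₂.symm
  obtain ⟨hz, -⟩ := hobj z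
  have hθ : 𝒮.p.map θ.hom = eqToHom hz := by
    have : 𝒮.p.map i₂.hom = eqToHom (hz.symm.trans q) := by
      show 𝒮.p.map o.obj.iso.hom.hom.snd = _
      rw [map_snd o.obj.iso.hom]
      show _ ≫ 𝒮.p.map i₁.hom ≫ _ = _
      rw [hq, eqToHom_trans, eqToHom_trans]
    show 𝒮.p.map (i₁.hom ≫ i₂.inv) = _
    rw [← cancel_mono (𝒮.p.map i₂.hom), ← Functor.map_comp, Category.assoc, Iso.inv_hom_id,
      Category.comp_id, hq, this, eqToHom_trans]
  let o' : (fp a b).obj := ⟨⟨z, z, θ⟩, fpProp_of_map a b _ hz hθ⟩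
  obtain ⟨⟨M⟩, huniq⟩ := hc₀ o'
  have hv : ∀ N : o' ⟶ c₀, N.hom.snd.left = N.hom.fst.left ≫ eqToHom h₀.symm := fun N => by
    rw [left_eq N]
    exact Category.id_comp _
  constructor
  · let l : z.left ⟶ uP.left := pullback.lift M.hom.fst.left z.hom (by
      refine prod.hom_ext ?_ ?_
      · simp only [k, d, Category.assoc, prod.lift_fst, Category.comp_id]
        exact Over.w M.hom.fst
      · have := Over.w M.hom.snd
        rw [hv M, Category.assoc] at this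
        simp only [k, d, Category.assoc, prod.lift_snd, Category.comp_id]
        exact this)
    let m : z ⟶ uP := Over.homMk l (pullback.lift_snd _ _ _)
    have em₁ : m ≫ eu = M.hom.fst := Over.OverMorphism.ext (pullback.lift_fst _ _ _)
    have em₂ : m ≫ ev = M.hom.snd := Over.OverMorphism.ext (by
      show l ≫ pullback.fst k d ≫ eqToHom _ = _
      rw [hv M, pullback.lift_fst_assoc])
    have key : θ.hom ≫ b.map m = a.map m ≫ χ := by
      refine cancel hS (b.map ev) ?_ ?_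
      · simp [map_over, hθ, hχ]
      · rw [Category.assoc, Category.assoc, hc, ← Functor.map_comp, ← Functor.map_comp_assoc,
          em₁, em₂]
        exact M.hom.w.symm
    refine ⟨ObjectProperty.homMk ⟨m, i₁.inv ≫ a.map m, ObjectProperty.hom_ext _
      (CategoricalPullback.hom_ext ?_ ?_)⟩⟩
    · show a.map m ≫ 𝟙 _ = i₁.hom ≫ i₁.inv ≫ a.map m
      simp
    · show b.map m ≫ inv χ = i₂.hom ≫ i₁.inv ≫ a.map m
      rw [IsIso.comp_inv_eq, Category.assoc, Category.assoc, ← key]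
      simp [θ]
  · intro m m'
    have conv : ∀ N : o ⟶ oP, N.hom.snd = i₁.inv ≫ a.map N.hom.fst ∧ ∃ N' : o' ⟶ c₀,
        N'.hom.fst = N.hom.fst ≫ eu := by
      intro N
      have w₁ : a.map N.hom.fst ≫ 𝟙 _ = i₁.hom ≫ N.hom.snd :=
        congrArg (fun t => t.hom.fst) N.hom.w
      have w₂ : b.map N.hom.fst ≫ inv χ = i₂.hom ≫ N.hom.snd :=
        congrArg (fun t => t.hom.snd) N.hom.w
      rw [Category.comp_id] at w₁
      refine ⟨by simp [w₁], ObjectProperty.homMk ⟨N.hom.fst ≫ eu, N.hom.fst ≫ ev, ?_⟩, rfl⟩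
      show a.map _ ≫ c₀.obj.iso.hom = θ.hom ≫ b.map _
      rw [Functor.map_comp, Functor.map_comp, Category.assoc, ← hc]
      have w₂' : b.map N.hom.fst = (i₂.hom ≫ N.hom.snd) ≫ χ := (IsIso.comp_inv_eq χ).1 w₂
      simp [θ, w₁, w₂']
    obtain ⟨es, N, hN⟩ := conv m
    obtain ⟨es', N', hN'⟩ := conv m'
    have h₁ : m.hom.fst.left ≫ pullback.fst k d = m'.hom.fst.left ≫ pullback.fst k d :=
      congrArg (fun t => t.left) (hN.symm.trans ((congrArg (fun t => t.hom.fst) (huniq N N')).trans hN'))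
    have hl : m.hom.fst = m'.hom.fst := Over.OverMorphism.ext (pullback.hom_ext h₁
      ((Over.w m.hom.fst).trans (Over.w m'.hom.fst).symm))
    exact ObjectProperty.hom_ext _ (CategoricalPullback.hom_ext hl (by rw [es, es', hl]))

end Groth.Agent.FibCatRep
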