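import Groth.Agent.FibCatRep.Cart
import Mathlib.CategoryTheory.Adjunction.Basic

/-!
Factorisation of a morphism of fibred categories `F : 𝒳 ⟶ 𝒴` as a fully faithful functor with a left
adjoint followed by a fibration: the category of vertical morphisms `y ⟶ F x`.
-/

set_option autoImplicit false
set_option backward.isDefEq.respectTransparency false
set_option linter.style.haveILetI false
universe v u

namespace Groth.Agent.FibCatRep

open CategoryTheory CategoryTheory.Limits FibCat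

variable {C : Type u} [Category.{v} C]

lemma exists_iso_of_cart {𝒳 : Type (max u v)} [Category.{v} 𝒳] {p : 𝒳 ⥤ C} {y y' x : 𝒳} {φ : y ⟶ x}
    {φ' : y' ⟶ x} (h : Cart p φ) (h' : Cart p φ') (e : p.obj y = p.obj y')
    (hp : p.map φ = eqToHom e ≫ p.map φ') : ∃ χ : y ⟶ y', IsIso χ ∧ χ ≫ φ' = φ := by
  obtain ⟨χ, ⟨hχ, hc⟩, -⟩ := existsUnique_of_cart h' φ (eqToHom e) hp.symm
  obtain ⟨χ', ⟨hχ', hc'⟩, -⟩ := existsUnique_of_cart h φ' (eqToHom e.symm) (by simp [hp])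
  exact ⟨χ, ⟨χ', cancel_of_cart h (by simp [hχ, hχ']) (by simp [hc', hc]),
    cancel_of_cart h' (by simp [hχ, hχ']) (by simp [hc', hc])⟩, hc⟩

variable {𝒳 𝒴 : BasedCategory.{v, max u v} C} (F : 𝒳 ⥤ᵇ 𝒴)

/-- A vertical morphism `a : y ⟶ F x`. -/
structure Vert : Type (max u v) where
  x : 𝒳.obj
  y : 𝒴.obj
  a : y ⟶ F.obj x
  h : 𝒴.p.obj y = 𝒳.p.obj x
  ha : 𝒴.p.map a = eqToHom (h.trans (F.w_obj x).symm)

namespace Vert

variable {F}

@[ext]
structure Hom (o o' : Vert F) : Type v where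
  fst : o.x ⟶ o'.x
  snd : o.y ⟶ o'.y
  w : snd ≫ o'.a = o.a ≫ F.map fst

instance : Category.{v} (Vert F) where
  Hom := Hom
  id o := ⟨𝟙 _, 𝟙 _, by simp⟩
  comp f g := ⟨f.fst ≫ g.fst, f.snd ≫ g.snd, by
    rw [Category.assoc, g.w, ← Category.assoc, f.w, Category.assoc, ← Functor.map_comp]⟩
  id_comp f := Hom.ext (Category.id_comp _) (Category.id_comp _)
  comp_id f := Hom.ext (Category.comp_id _) (Category.comp_id _)
  assoc f g h := Hom.ext (Category.assoc _ _ _) (Category.assoc _ _ _)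

@[ext] theorem hom_ext {o o' : Vert F} {f g : o ⟶ o'} (h₁ : f.fst = g.fst) (h₂ : f.snd = g.snd) :
    f = g := Hom.ext h₁ h₂

lemma map_snd {o o' : Vert F} (m : o ⟶ o') :
    𝒴.p.map m.snd = eqToHom o.h ≫ 𝒳.p.map m.fst ≫ eqToHom o'.h.symm := by
  have h := congrArg 𝒴.p.map m.w
  rw [Functor.map_comp, Functor.map_comp, map_map, o.ha, o'.ha] at h
  rw [← cancel_mono (eqToHom (o'.h.trans (F.w_obj o'.x).symm))]
  rw [h]
  simp

end Vert

/-- The category of vertical morphisms `y ⟶ F x` over the base. -/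
abbrev vertCat : BasedCategory.{v, max u v} C where
  obj := Vert F
  p :=
    ({ obj := fun o => 𝒳.p.obj o.x
       map := fun m => 𝒳.p.map m.fst
       map_id := fun _ => 𝒳.p.map_id _
       map_comp := fun _ _ => 𝒳.p.map_comp _ _ } : Vert F ⥤ C)

/-- `x ↦ (x, F x, 𝟙)`. -/
def vertIncl : 𝒳 ⥤ᵇ vertCat F where
  toFunctor :=
    { obj := fun x => ⟨x, F.obj x, 𝟙 _, F.w_obj x, 𝒴.p.map_id _⟩
      map := fun φ => ⟨φ, F.map φ, (Category.comp_id _).trans (Category.id_comp _).symm⟩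
      map_id := fun x => Vert.hom_ext rfl (F.map_id x)
      map_comp := fun φ ψ => Vert.hom_ext rfl (F.map_comp φ ψ) }
  w := rfl

/-- `(x, y, a) ↦ x`. -/
def vertFst : vertCat F ⥤ᵇ 𝒳 where
  toFunctor := { obj := fun o => o.x, map := fun m => m.fst, map_id := fun _ => rfl, map_comp := fun _ _ => rfl }
  w := rfl

/-- `(x, y, a) ↦ y`. -/
def vertSnd : vertCat F ⥤ᵇ 𝒴 where
  toFunctor := { obj := fun o => o.y, map := fun m => m.snd, map_id := fun _ => rfl, map_comp := fun _ _ => rfl }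
  w := CategoryTheory.Functor.ext (fun o => o.h) (fun _ _ m => Vert.map_snd m)

/-- `vertFst ⊣ vertIncl`. -/
def vertAdj : (vertFst F).toFunctor ⊣ (vertIncl F).toFunctor :=
  Adjunction.mkOfHomEquiv
    { homEquiv := fun o x =>
        { toFun := fun φ => ⟨φ, o.a ≫ F.map φ, by
            show (o.a ≫ F.map φ) ≫ 𝟙 _ = o.a ≫ F.map φ
            exact Category.comp_id _⟩
          invFun := fun m => m.fst
          left_inv := fun φ => rfl
          right_inv := fun m => Vert.hom_ext rfl (by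
            have h : m.snd ≫ 𝟙 _ = o.a ≫ F.map m.fst := m.w
            show o.a ≫ F.map m.fst = m.snd
            rw [← h]
            exact Category.comp_id _) }
      homEquiv_naturality_left_symm := fun _ _ => rfl
      homEquiv_naturality_right := fun {o x x'} φ g => Vert.hom_ext rfl (by
        show o.a ≫ F.map (φ ≫ g) = (o.a ≫ F.map φ) ≫ F.map g
        rw [Functor.map_comp, Category.assoc]) }

variable [𝒳.p.IsFibered] [𝒴.p.IsFibered]
  (hF : ∀ {a b : 𝒳.obj} (φ : a ⟶ b), Cart 𝒳.p φ → Cart 𝒴.p (F.map φ))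

omit [𝒳.p.IsFibered] [𝒴.p.IsFibered] in
lemma cart_vert {o' o : Vert F} (m : o' ⟶ o) (h₁ : Cart 𝒳.p m.fst) (h₂ : Cart 𝒴.p m.snd)
    (h₃ : Cart 𝒴.p (F.map m.fst)) : Cart (vertCat F).p m := by
  refine cart_mk m fun {o''} ψ g hg => ?_
  obtain ⟨χ₁, ⟨hχ₁, c₁⟩, u₁⟩ := existsUnique_of_cart h₁ ψ.fst g hg
  have hg' : g ≫ 𝒳.p.map m.fst = 𝒳.p.map ψ.fst := hg
  obtain ⟨χ₂, ⟨hχ₂, c₂⟩, u₂⟩ := existsUnique_of_cart h₂ ψ.snd
    (eqToHom o''.h ≫ g ≫ eqToHom o'.h.symm) (by simp [Vert.map_snd, reassoc_of% hg'])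
  have w : χ₂ ≫ o'.a = o''.a ≫ F.map χ₁ := by
    refine cancel_of_cart h₃ ?_ ?_
    · simp [map_map, hχ₁, hχ₂, o'.ha, o''.ha]
    · rw [Category.assoc, Category.assoc, ← Functor.map_comp, c₁, ← m.w, ← Category.assoc, c₂, ψ.w]
  exact ⟨⟨χ₁, χ₂, w⟩, ⟨hχ₁, Vert.hom_ext c₁ c₂⟩, fun χ hχ => by
    have a : χ.fst = χ₁ := u₁ _ ⟨hχ.1, congrArg (fun k => k.fst) hχ.2⟩
    exact Vert.hom_ext a (u₂ _ ⟨by rw [Vert.map_snd, a, hχ₁], congrArg (fun k => k.snd) hχ.2⟩)⟩

include hF in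
omit [𝒴.p.IsFibered] in
lemma exists_lift_vertSnd {o : Vert F} {y' : 𝒴.obj} (β : y' ⟶ o.y) :
    ∃ (o' : Vert F) (m : o' ⟶ o) (h : o'.y = y'), m.snd = eqToHom h ≫ β ∧ Cart 𝒳.p m.fst := by
  obtain ⟨x', φ, hx', hφ, cφ⟩ := exists_cart_lift (p := 𝒳.p) (x := o.x) (𝒴.p.map β ≫ eqToHom o.h)
  obtain ⟨a', ⟨ha', hc⟩, -⟩ := existsUnique_of_cart (hF φ cφ) (β ≫ o.a)
    (eqToHom (hx'.symm.trans (F.w_obj x').symm)) (by simp [map_map, hφ, o.ha])
  exact ⟨⟨x', y', a', hx'.symm, ha'⟩, ⟨φ, β, hc.symm⟩, rfl, (Category.id_comp _).symm, cφ⟩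

include hF in
lemma exists_lift_vert {o : Vert F} {V : C} (f : V ⟶ 𝒳.p.obj o.x) :
    ∃ (o' : Vert F) (m : o' ⟶ o) (h : 𝒳.p.obj o'.x = V), 𝒳.p.map m.fst = eqToHom h ≫ f ∧
      Cart 𝒳.p m.fst ∧ Cart 𝒴.p m.snd := by
  obtain ⟨y', β, hy', hβ, cβ⟩ := exists_cart_lift (p := 𝒴.p) (x := o.y) (f ≫ eqToHom o.h.symm)
  obtain ⟨o', m, h, hm, cm⟩ := exists_lift_vertSnd F hF (o := o) β
  refine ⟨o', m, o'.h.symm.trans ((congrArg 𝒴.p.obj h).trans hy'), ?_, cm, ?_⟩
  · have h2 := Vert.map_snd m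
    rw [hm, Functor.map_comp, eqToHom_map, hβ] at h2
    rw [← cancel_epi (eqToHom o'.h), ← cancel_mono (eqToHom o.h.symm)]
    simp only [Category.assoc] at h2 ⊢
    rw [← h2]
    simp
  · rw [hm]
    exact cart_comp (cart_of_isIso _) cβ

include hF in
theorem isFibered_vertCat : (vertCat F).p.IsFibered :=
  isFibered_of_lifts fun o V f => by
    obtain ⟨o', m, h, hm, c₁, c₂⟩ := exists_lift_vert F hF (o := o) f
    exact ⟨o', m, h, hm, cart_vert F m c₁ c₂ (hF _ c₁)⟩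

include hF in
theorem cart_components {o' o : Vert F} (m : o' ⟶ o) (h : Cart (vertCat F).p m) :
    Cart 𝒳.p m.fst ∧ Cart 𝒴.p m.snd := by
  obtain ⟨o'', l, hl', hl, c₁, c₂⟩ := exists_lift_vert F hF (o := o) ((vertCat F).p.map m)
  obtain ⟨χ, hχ, hc⟩ := exists_iso_of_cart h (cart_vert F l c₁ c₂ (hF _ c₁))
    (hl'.symm) (by
      show (vertCat F).p.map m = eqToHom _ ≫ 𝒳.p.map l.fst
      rw [hl]
      simp)
  haveI : IsIso χ.fst := inferInstanceAs (IsIso ((vertFst F).map χ))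
  haveI : IsIso χ.snd := inferInstanceAs (IsIso ((vertSnd F).map χ))
  rw [← hc]
  exact ⟨cart_comp (cart_of_isIso χ.fst) c₁, cart_comp (cart_of_isIso χ.snd) c₂⟩

include hF in
omit [𝒴.p.IsFibered] in
theorem isFibered_vertSnd : (vertSnd F).toFunctor.IsFibered :=
  isFibered_of_lifts fun o y' β => by
    obtain ⟨o', m, h, hm, cm⟩ := exists_lift_vertSnd F hF (o := o) β
    refine ⟨o', m, h, hm, cart_mk m fun {o''} ψ g hg => ?_⟩
    have hg' : g ≫ m.snd = ψ.snd := hg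
    have hp : 𝒴.p.map g ≫ 𝒴.p.map m.snd = 𝒴.p.map ψ.snd := by rw [← Functor.map_comp, hg']
    rw [Vert.map_snd, Vert.map_snd] at hp
    obtain ⟨χ₁, ⟨hχ₁, c₁⟩, u₁⟩ := existsUnique_of_cart cm ψ.fst
      (eqToHom o''.h.symm ≫ 𝒴.p.map g ≫ eqToHom o'.h) (by
        rw [← cancel_epi (eqToHom o''.h), ← cancel_mono (eqToHom o.h.symm)]
        simp only [Category.assoc] at hp ⊢
        rw [← hp]
        simp)
    have w : g ≫ o'.a = o''.a ≫ F.map χ₁ := by
      refine cancel_of_cart (hF _ cm) ?_ ?_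
      · simp [map_map, hχ₁, o'.ha, o''.ha]
      · rw [Category.assoc, Category.assoc, ← Functor.map_comp, c₁, ← m.w, ← Category.assoc, hg', ψ.w]
    refine ⟨⟨χ₁, g, w⟩, ⟨rfl, Vert.hom_ext c₁ hg'⟩, fun χ hχ => ?_⟩
    have hs : χ.snd = g := hχ.1
    refine Vert.hom_ext (u₁ _ ⟨?_, congrArg (fun k => k.fst) hχ.2⟩) hs
    rw [← hs, Vert.map_snd]
    simp

include hF in
theorem exists_factorization :
    (vertCat F).p.IsFibered ∧ PreservesStronglyCartesian (vertIncl F) ∧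
      PreservesStronglyCartesian (vertSnd F) ∧ PreservesStronglyCartesian (vertFst F) := by
  refine ⟨isFibered_vertCat F hF, fun R S f a b φ h => ?_, fun R S f a b φ h => ?_,
    fun R S f a b φ h => ?_⟩
  · haveI := h.toIsHomLift
    haveI : (vertCat F).p.IsHomLift f ((vertIncl F).map φ) := BasedFunctor.preserves_isHomLift _ f φ
    have cφ := cart_of_lift f φ h
    exact lift_of_cart f _ (cart_vert F _ cφ (hF φ cφ) (hF φ cφ))
  · haveI := h.toIsHomLift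
    haveI : 𝒴.p.IsHomLift f ((vertSnd F).map φ) := BasedFunctor.preserves_isHomLift _ f φ
    exact lift_of_cart f _ (cart_components F hF φ (cart_of_lift f φ h)).2
  · haveI := h.toIsHomLift
    haveI : 𝒳.p.IsHomLift f ((vertFst F).map φ) := BasedFunctor.preserves_isHomLift _ f φ
    exact lift_of_cart f _ (cart_components F hF φ (cart_of_lift f φ h)).1

end Groth.Agent.FibCatRep
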