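import Groth.Agent.FibCatRep.Cart

/-!
The inertia of a functor over the base preserving cartesian morphisms is fibred; fully faithfulness
of cartesian functors is detected on fibres.
-/

set_option autoImplicit false
set_option backward.isDefEq.respectTransparency false
set_option linter.style.haveILetI false
universe v u v₂ u₂ v₃ u₃ v₄ u₄

namespace Groth.Agent.FibCatRep

open CategoryTheory CategoryTheory.Limits FibCat

variable {C : Type u} [Category.{v} C]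
variable {𝒳 : BasedCategory.{v₂, u₂} C} {𝒴 : BasedCategory.{v₃, u₃} C}

lemma map_eq_eqToHom_iff (F : 𝒳 ⥤ᵇ 𝒴) {a b : 𝒳.obj} (φ : a ⟶ b) (h : 𝒳.p.obj a = 𝒳.p.obj b)
    (h' : 𝒴.p.obj (F.obj a) = 𝒴.p.obj (F.obj b)) :
    𝒳.p.map φ = eqToHom h ↔ 𝒴.p.map (F.map φ) = eqToHom h' := by
  rw [map_map]
  constructor
  · intro e; rw [e]; simp
  · intro e
    rw [← cancel_epi (eqToHom (F.w_obj a)), ← cancel_mono (eqToHom (F.w_obj b).symm)]
    simp only [Category.assoc] at e ⊢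
    rw [e]
    simp

lemma map_aut_inertia {F : 𝒳 ⥤ᵇ 𝒴} (z : InertiaObj F) : 𝒳.p.map z.aut.hom = 𝟙 _ := by
  have h := (map_eq_eqToHom_iff F z.aut.hom rfl rfl).2 (by
    rw [z.map_aut, CategoryTheory.Functor.map_id]; rfl)
  exact h

lemma cart_inertia {F : 𝒳 ⥤ᵇ 𝒴} {z' z : InertiaObj F} (φ : z' ⟶ z) (h : Cart 𝒳.p φ.hom) :
    Cart (inertia F).p φ := by
  refine cart_mk φ fun {z''} ψ g hg => ?_
  obtain ⟨χ, ⟨hχ, hc⟩, hu⟩ := existsUnique_of_cart h ψ.hom g hg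
  have comm : z''.aut.hom ≫ χ = χ ≫ z'.aut.hom := by
    refine cancel_of_cart h ?_ ?_
    · simp [map_aut_inertia]
    · rw [Category.assoc, Category.assoc, φ.comm, hc, ← Category.assoc, hc, ψ.comm]
  exact ⟨⟨χ, comm⟩, ⟨hχ, InertiaObj.hom_ext hc⟩,
    fun χ' hχ' => InertiaObj.hom_ext (hu χ'.hom ⟨hχ'.1, congrArg (fun m => m.hom) hχ'.2⟩)⟩

theorem isFibered_inertia [𝒳.p.IsFibered] (F : 𝒳 ⥤ᵇ 𝒴)
    (hF : ∀ {a b : 𝒳.obj} (φ : a ⟶ b), Cart 𝒳.p φ → Cart 𝒴.p (F.map φ)) :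
    (inertia F).p.IsFibered := by
  refine isFibered_of_lifts fun z V f => ?_
  obtain ⟨y, φ, hy, hφ, cφ⟩ := exists_cart_lift (p := 𝒳.p) (x := z.pt) f
  have hinv : 𝒳.p.map z.aut.inv = 𝟙 _ := by
    have h := congrArg 𝒳.p.map z.aut.inv_hom_id
    rwa [Functor.map_comp, map_aut_inertia, Category.comp_id, CategoryTheory.Functor.map_id] at h
  obtain ⟨β, ⟨hβ, cβ⟩, -⟩ := existsUnique_of_cart cφ (φ ≫ z.aut.hom) (𝟙 _) (by simp [map_aut_inertia])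
  obtain ⟨β', ⟨hβ', cβ'⟩, -⟩ := existsUnique_of_cart cφ (φ ≫ z.aut.inv) (𝟙 _) (by simp [hinv])
  let b : y ≅ y :=
    ⟨β, β', cancel_of_cart cφ (by simp [hβ, hβ']) (by rw [Category.assoc, cβ', ← Category.assoc, cβ]; simp),
      cancel_of_cart cφ (by simp [hβ, hβ']) (by rw [Category.assoc, cβ, ← Category.assoc, cβ']; simp)⟩
  have hb : F.map b.hom = 𝟙 (F.obj y) := by
    refine cancel_of_cart (hF φ cφ) ?_ ?_
    · rw [map_map, show 𝒳.p.map b.hom = 𝟙 _ from hβ]; simp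
    · rw [← Functor.map_comp, show b.hom ≫ φ = φ ≫ z.aut.hom from cβ, Functor.map_comp, z.map_aut]
      simp
  exact ⟨⟨y, b, hb⟩, ⟨φ, cβ⟩, hy, hφ, cart_inertia _ cφ⟩

variable (G : 𝒳 ⥤ᵇ 𝒴)

lemma fiberFunctor_unique (U : C) (GU : 𝒳.p.Fiber U ⥤ 𝒴.p.Fiber U)
    (h : GU ⋙ Functor.Fiber.fiberInclusion = Functor.Fiber.fiberInclusion ⋙ G.toFunctor) :
    GU = fiberFunctor G U := by
  refine CategoryTheory.Functor.ext (fun x => Subtype.ext (Functor.congr_obj h x)) (fun x y φ => ?_)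
  apply Functor.Fiber.fiberInclusion.map_injective
  have := Functor.congr_hom h φ
  rw [Functor.map_comp, Functor.map_comp, eqToHom_map, eqToHom_map]
  exact this

theorem faithful_of_fiber_of_cart [𝒳.p.IsFibered]
    (hG : ∀ {a b : 𝒳.obj} (φ : a ⟶ b), Cart 𝒳.p φ → Cart 𝒴.p (G.map φ))
    (hf : ∀ U, (fiberFunctor G U).Faithful) : G.toFunctor.Faithful := ⟨fun {a b} φ φ' h => by
  have hp : 𝒳.p.map φ = 𝒳.p.map φ' := by
    have h2 := congrArg 𝒴.p.map h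
    rw [map_map, map_map] at h2
    exact (cancel_mono (eqToHom (G.w_obj b).symm)).1 ((cancel_epi (eqToHom (G.w_obj a))).1 h2)
  obtain ⟨c, ψ, hc, hψ, cψ⟩ := exists_cart_lift (p := 𝒳.p) (x := b) (𝒳.p.map φ)
  obtain ⟨χ, ⟨hχ, hχc⟩, -⟩ := existsUnique_of_cart cψ φ (eqToHom hc.symm) (by simp [hψ])
  obtain ⟨χ', ⟨hχ', hχc'⟩, -⟩ := existsUnique_of_cart cψ φ' (eqToHom hc.symm) (by simp [hψ, hp])
  have hGχ : G.map χ = G.map χ' := cancel_of_cart (hG ψ cψ) (by simp [map_map, hχ, hχ'])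
    (by rw [← Functor.map_comp, ← Functor.map_comp, hχc, hχc']; exact h)
  haveI := hf (𝒳.p.obj a)
  have := (fiberFunctor G (𝒳.p.obj a)).map_injective
    (a₁ := fibHom ⟨a, rfl⟩ ⟨c, hc⟩ χ hχ) (a₂ := fibHom ⟨a, rfl⟩ ⟨c, hc⟩ χ' hχ') (Subtype.ext hGχ)
  rw [← hχc, ← hχc', show χ = χ' from congrArg Subtype.val this]⟩

theorem full_of_fiber_of_cart [𝒳.p.IsFibered]
    (hG : ∀ {a b : 𝒳.obj} (φ : a ⟶ b), Cart 𝒳.p φ → Cart 𝒴.p (G.map φ))
    (hf : ∀ U, (fiberFunctor G U).Full) : G.toFunctor.Full := ⟨fun {a b} ψ => by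
  obtain ⟨c, φ, hc, hφ, cφ⟩ := exists_cart_lift (p := 𝒳.p) (x := b)
    (eqToHom (G.w_obj a).symm ≫ 𝒴.p.map ψ ≫ eqToHom (G.w_obj b))
  have hac : 𝒴.p.obj (G.obj a) = 𝒴.p.obj (G.obj c) := (G.w_obj a).trans (hc.symm.trans (G.w_obj c).symm)
  obtain ⟨χ, ⟨hχ, hχc⟩, -⟩ := existsUnique_of_cart (hG φ cφ) ψ (eqToHom hac) (by simp [map_map, hφ])
  haveI := hf (𝒳.p.obj a)
  obtain ⟨χ₀, hχ₀⟩ := (fiberFunctor G (𝒳.p.obj a)).map_surjective
    (fibHom ((fiberFunctor G _).obj ⟨a, rfl⟩) ((fiberFunctor G _).obj ⟨c, hc⟩) χ hχ)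
  exact ⟨χ₀.1 ≫ φ, (G.toFunctor.map_comp _ _).trans
    ((congrArg (· ≫ G.map φ) (congrArg Subtype.val hχ₀)).trans hχc)⟩⟩

theorem fullyFaithful_fiber [G.toFunctor.Full] [G.toFunctor.Faithful] (U : C) :
    (fiberFunctor G U).Full ∧ (fiberFunctor G U).Faithful := by
  refine ⟨⟨fun {a b} ψ => ?_⟩, ⟨fun h => Subtype.ext (G.toFunctor.map_injective (congrArg Subtype.val h))⟩⟩
  obtain ⟨φ, hφ⟩ := G.toFunctor.map_surjective (X := a.1) (Y := b.1) ψ.1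
  have h := map_of_fiber ψ
  rw [← hφ] at h
  exact ⟨fibHom a b φ ((map_eq_eqToHom_iff G φ _ _).2 h), Subtype.ext hφ⟩

theorem isGroupoid_of_equivOver (hG : IsEquivOver G)
    (h : ∀ {a b : 𝒴.obj} (φ : a ⟶ b) (e : 𝒴.p.obj a = 𝒴.p.obj b), 𝒴.p.map φ = eqToHom e → IsIso φ)
    (U : C) : IsGroupoid (𝒳.p.Fiber U) := ⟨fun {a b} φ => by
  obtain ⟨heq, -⟩ := isEquivOver_data hG
  haveI := heq
  have e := map_of_fiber φ
  haveI : IsIso (G.map φ.1) := h _ ((G.w_obj a.1).trans ((a.2.trans b.2.symm).trans (G.w_obj b.1).symm))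
    ((map_eq_eqToHom_iff G φ.1 _ _).1 e)
  haveI : IsIso φ.1 := isIso_of_reflects_iso φ.1 G.toFunctor
  exact ⟨fibHom b a (inv φ.1) (map_inv_of_eqToHom _ e), Subtype.ext (IsIso.hom_inv_id φ.1),
    Subtype.ext (IsIso.inv_hom_id φ.1)⟩⟩

end Groth.Agent.FibCatRep
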