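import Groth.Prelude.Def_FibClv
import Mathlib.CategoryTheory.Bicategory.Functor.LocallyDiscrete
import Mathlib.CategoryTheory.Category.Cat
import Mathlib.CategoryTheory.Functor.FullyFaithful

/-!
A split category over a base is the category of elements of a strict functor.
-/

set_option autoImplicit false
set_option backward.isDefEq.respectTransparency false
set_option linter.style.haveILetI false
universe v₁ v₂ u₁ u₂

namespace Groth.Agent.FibCatRep

open CategoryTheory CategoryTheory.Functor Opposite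

variable {𝒮 : Type u₁} [Category.{v₁} 𝒮] {𝒳 : Type u₂} [Category.{v₂} 𝒳] {p : 𝒳 ⥤ 𝒮}

namespace Split

variable (K : FibCat.Cleavage p)

lemma val_eqToHom {S : 𝒮} {a b : p.Fiber S} (h : a = b) :
    (eqToHom h : a ⟶ b).1 = eqToHom (congrArg (fun x : p.Fiber S => x.1) h) := by
  subst h
  rfl

lemma val_conj {S : 𝒮} {a b c d : p.Fiber S} (h : a = b) (φ : b ⟶ c) (h' : c = d) :
    (eqToHom h ≫ φ ≫ eqToHom h').1 = eqToHom (congrArg (fun x : p.Fiber S => x.1) h) ≫ φ.1 ≫
      eqToHom (congrArg (fun x : p.Fiber S => x.1) h') := by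
  subst h h'
  simp only [eqToHom_refl, Category.id_comp, Category.comp_id]

lemma val_comp_eqToHom {S : 𝒮} {a b c d : p.Fiber S} (φ : a ⟶ b) (ψ : b ⟶ c) (h' : c = d) :
    (φ ≫ ψ ≫ eqToHom h').1 = φ.1 ≫ ψ.1 ≫ eqToHom (congrArg (fun x : p.Fiber S => x.1) h') := by
  subst h'
  simp only [eqToHom_refl, Category.comp_id]
  rfl

lemma inverseImage_val {R S : 𝒮} (f : R ⟶ S) {a b : p.Fiber S} (φ : a ⟶ b) :
    ((K.inverseImage f).map φ).1 ≫ K.lift b.2 f = K.lift a.2 f ≫ φ.1 :=
  IsCartesian.fac p f (K.lift b.2 f) (K.lift a.2 f ≫ Fiber.fiberInclusion.map φ)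

variable {K} (hK : K.IsSplitting)
include hK

lemma inverseImage_id (S : 𝒮) : K.inverseImage (𝟙 S) = 𝟭 (p.Fiber S) := by
  refine CategoryTheory.Functor.ext (fun a => Subtype.ext (hK.1 a.2).1) (fun a b φ => Subtype.ext ?_)
  obtain ⟨ha, la⟩ := hK.1 (S := S) a.2
  obtain ⟨hb, lb⟩ := hK.1 (S := S) b.2
  rw [Functor.id_map, val_conj]
  have h := inverseImage_val K (𝟙 S) φ
  rw [la, lb] at h
  rw [← cancel_mono (eqToHom hb), h]
  simp

lemma inverseImage_comp {R S T : 𝒮} (g : R ⟶ T) (f : T ⟶ S) :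
    K.inverseImage (g ≫ f) = K.inverseImage f ⋙ K.inverseImage g := by
  refine CategoryTheory.Functor.ext (fun a => Subtype.ext (hK.2 f g a.2).1.symm) (fun a b φ => Subtype.ext ?_)
  obtain ⟨ha, la⟩ := hK.2 f g a.2
  obtain ⟨hb, lb⟩ := hK.2 f g b.2
  rw [Functor.comp_map, val_conj]
  have ψ := inverseImage_val K g ((K.inverseImage f).map φ)
  haveI : p.IsHomLift (𝟙 R) ((K.inverseImage (g ≫ f)).map φ).1 := ((K.inverseImage (g ≫ f)).map φ).2
  haveI : p.IsHomLift (𝟙 R) ((K.inverseImage g).map ((K.inverseImage f).map φ)).1 :=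
    ((K.inverseImage g).map ((K.inverseImage f).map φ)).2
  apply IsCartesian.ext p (g ≫ f) (K.lift b.2 (g ≫ f))
  rw [inverseImage_val, Category.assoc, Category.assoc]
  show _ = eqToHom _ ≫ _ ≫ eqToHom _ ≫ K.lift b.2 (g ≫ f)
  rw [← lb]
  show _ = eqToHom _ ≫ _ ≫ K.lift ((K.inverseImage f).obj b).2 g ≫ K.lift b.2 f
  rw [reassoc_of% ψ, inverseImage_val]
  show _ = eqToHom _ ≫ K.lift (K.obj_proj a.2 f) g ≫ K.lift a.2 f ≫ φ.1
  rw [reassoc_of% la]
  simp

variable (K)

/-- The strict functor of a splitting. -/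
noncomputable def splitFunctor : 𝒮ᵒᵖ ⥤ Cat.{v₂, u₂} where
  obj U := Cat.of (p.Fiber U.unop)
  map f := (K.inverseImage f.unop).toCatHom
  map_id _ := congr($(inverseImage_id hK _).toCatHom)
  map_comp f g := congr($(inverseImage_comp hK g.unop f.unop).toCatHom)

/-- The category of elements of the strict functor. -/
noncomputable abbrev splitElts : Type (max u₁ u₂) :=
  Pseudofunctor.CoGrothendieck (splitFunctor K hK).toPseudofunctor'

/-- The object of the fibre underlying an object of the category of elements. -/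
abbrev fib (X : splitElts K hK) : p.Fiber X.base := X.fiber

/-- The fibre component of a morphism. -/
abbrev fibHom' {X Y : splitElts K hK} (f : X ⟶ Y) :
    fib K hK X ⟶ (K.inverseImage f.base).obj (fib K hK Y) := f.fiber

lemma fibHom_id (X : splitElts K hK) :
    fibHom' K hK (𝟙 X) = eqToHom (Functor.congr_obj (inverseImage_id hK X.base) (fib K hK X)).symm := by
  show ((splitFunctor K hK).toPseudofunctor'.mapId ⟨op X.base⟩).inv.toNatTrans.app X.fiber = _
  exact Cat.eqToHom_app _ _ ((splitFunctor K hK).map_id (op X.base)).symm _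

lemma fibHom_comp {X Y Z : splitElts K hK} (f : X ⟶ Y) (g : Y ⟶ Z) :
    fibHom' K hK (f ≫ g) = fibHom' K hK f ≫ (K.inverseImage f.base).map (fibHom' K hK g) ≫
      eqToHom (Functor.congr_obj (inverseImage_comp hK f.base g.base) (fib K hK Z)).symm := by
  show f.fiber ≫ ((splitFunctor K hK).toPseudofunctor'.map f.base.op.toLoc).toFunctor.map g.fiber ≫
    ((splitFunctor K hK).toPseudofunctor'.mapComp g.base.op.toLoc f.base.op.toLoc).inv.toNatTrans.app Z.fiber = _
  exact congrArg (fun k => fibHom' K hK f ≫ (K.inverseImage f.base).map (fibHom' K hK g) ≫ k)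
    (Cat.eqToHom_app _ _ ((splitFunctor K hK).map_comp g.base.op f.base.op).symm _)

/-- `(S, a) ↦ a`. -/
noncomputable def toTotal : splitElts K hK ⥤ 𝒳 where
  obj X := (fib K hK X).1
  map {X Y} f := (fibHom' K hK f).1 ≫ K.lift (fib K hK Y).2 f.base
  map_id X := by
    rw [fibHom_id, val_eqToHom]
    obtain ⟨ha, la⟩ := hK.1 (S := X.base) (fib K hK X).2
    show eqToHom ha.symm ≫ K.lift (fib K hK X).2 (𝟙 X.base) = 𝟙 _
    rw [la]
    simp
  map_comp {X Y Z} f g := by
    rw [fibHom_comp]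
    obtain ⟨ha, la⟩ := hK.2 g.base f.base (fib K hK Z).2
    rw [val_comp_eqToHom]
    show ((fibHom' K hK f).1 ≫ ((K.inverseImage f.base).map (fibHom' K hK g)).1 ≫ eqToHom ha) ≫ _ = _
    simp only [Category.assoc]
    refine (congrArg (fun k => (fibHom' K hK f).1 ≫ ((K.inverseImage f.base).map (fibHom' K hK g)).1 ≫ k)
      la.symm).trans ?_
    refine congrArg ((fibHom' K hK f).1 ≫ ·) ?_
    exact ((Category.assoc _ _ _).symm.trans
      (congrArg (· ≫ K.lift (fib K hK Z).2 g.base) (inverseImage_val K f.base (fibHom' K hK g)))).trans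
      (Category.assoc _ _ _)

lemma toTotal_comp : toTotal K hK ⋙ p = Pseudofunctor.CoGrothendieck.forget _ := by
  refine CategoryTheory.Functor.ext (fun X => (fib K hK X).2) (fun X Y f => ?_)
  show p.map ((fibHom' K hK f).1 ≫ K.lift (fib K hK Y).2 f.base) = _ ≫ f.base ≫ _
  haveI : p.IsHomLift (𝟙 X.base) (fibHom' K hK f).1 := (fibHom' K hK f).2
  have := IsHomLift.fac' p (𝟙 X.base ≫ f.base) ((fibHom' K hK f).1 ≫ K.lift (fib K hK Y).2 f.base)
  rw [this]
  simp

lemma map_toTotal {X Y : splitElts K hK} (f : X ⟶ Y) :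
    p.map ((toTotal K hK).map f) = eqToHom (fib K hK X).2 ≫ f.base ≫ eqToHom (fib K hK Y).2.symm :=
  Functor.congr_hom (toTotal_comp K hK) f

lemma faithful_toTotal : (toTotal K hK).Faithful := ⟨fun {X Y} m m' h => by
  have hp := congrArg p.map h
  rw [map_toTotal, map_toTotal] at hp
  have hb : m.base = m'.base :=
    (cancel_mono (eqToHom (fib K hK Y).2.symm)).1 ((cancel_epi (eqToHom (fib K hK X).2)).1 hp)
  obtain ⟨f, φ⟩ := m
  obtain ⟨f', φ'⟩ := m'
  obtain rfl : f = f' := hb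
  congr 1
  haveI := φ.2
  haveI := φ'.2
  exact Subtype.ext (IsCartesian.ext p f (K.lift (fib K hK Y).2 f) _ _ h)⟩

lemma full_toTotal : (toTotal K hK).Full := ⟨fun {X Y} ψ => by
  let f : X.base ⟶ Y.base := eqToHom (fib K hK X).2.symm ≫ p.map ψ ≫ eqToHom (fib K hK Y).2
  haveI : p.IsHomLift f ψ := IsHomLift.of_fac' p f ψ (fib K hK X).2 (fib K hK Y).2 (by simp [f])
  refine ⟨⟨f, ⟨IsCartesian.map p f (K.lift (fib K hK Y).2 f) ψ, inferInstance⟩⟩, ?_⟩
  exact IsCartesian.fac p f (K.lift (fib K hK Y).2 f) ψ⟩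

/-- `x ↦ (p x, x)`. -/
noncomputable def ofTotal : 𝒳 ⥤ splitElts K hK :=
  haveI := full_toTotal K hK
  haveI := faithful_toTotal K hK
  { obj := fun x => ⟨p.obj x, (⟨x, rfl⟩ : p.Fiber (p.obj x))⟩
    map := fun φ => (toTotal K hK).preimage φ
    map_id := fun x => (toTotal K hK).map_injective (by rw [Functor.map_preimage, CategoryTheory.Functor.map_id]; rfl)
    map_comp := fun φ ψ => (toTotal K hK).map_injective (by simp) }

lemma ofTotal_toTotal : ofTotal K hK ⋙ toTotal K hK = 𝟭 𝒳 := by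
  refine CategoryTheory.Functor.ext (fun x => rfl) (fun x y φ => ?_)
  haveI := full_toTotal K hK
  show (toTotal K hK).map ((toTotal K hK).preimage (X := (ofTotal K hK).obj x) (Y := (ofTotal K hK).obj y) φ) = 𝟙 x ≫ φ ≫ 𝟙 y
  rw [Functor.map_preimage]
  simp

lemma toTotal_ofTotal : toTotal K hK ⋙ ofTotal K hK = 𝟭 _ := by
  have ho : ∀ X, (ofTotal K hK).obj ((toTotal K hK).obj X) = X := fun X => by
    have key : ∀ (S : 𝒮) (a : 𝒳) (ha : p.obj a = S),
        (⟨p.obj a, (⟨a, rfl⟩ : p.Fiber (p.obj a))⟩ : splitElts K hK) = ⟨S, (⟨a, ha⟩ : p.Fiber S)⟩ := by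
      rintro _ a rfl
      rfl
    exact key X.base (fib K hK X).1 (fib K hK X).2
  refine CategoryTheory.Functor.ext ho (fun X Y m => ?_)
  haveI := faithful_toTotal K hK
  apply (toTotal K hK).map_injective
  have h := Functor.congr_hom (ofTotal_toTotal K hK) ((toTotal K hK).map m)
  refine h.trans ?_
  simp [eqToHom_map]

lemma ofTotal_forget : ofTotal K hK ⋙ Pseudofunctor.CoGrothendieck.forget _ = p := by
  rw [← toTotal_comp K hK, ← Functor.assoc, ofTotal_toTotal, Functor.id_comp]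

end Split

end Groth.Agent.FibCatRep
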