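import Groth.Agent.FibCatRep.Cart
import Groth.Agent.FibCatRep.Diag
import Groth.Agent.S6410
import Mathlib.CategoryTheory.FiberedCategory.Grothendieck
import Mathlib.CategoryTheory.Bicategory.Functor.LocallyDiscrete

/-!
Every fibred category is equivalent over the base to the category of elements of a strict functor
`Cᵒᵖ ⥤ Cat`: the value at `U` is the category of cartesian functors `C/U ⟶ 𝒳`, with morphisms the
vertical morphisms between the values at `𝟙 U`.
-/

set_option autoImplicit false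
set_option backward.isDefEq.respectTransparency false
set_option linter.style.haveILetI false
universe v u

namespace Groth.Agent.FibCatRep

open CategoryTheory CategoryTheory.Limits FibCat Opposite

variable {C : Type u} [Category.{v} C]

/-- `𝟙 U` as an object of `C/U`. -/
abbrev tOver (U : C) : Over U := Over.mk (𝟙 U)

lemma tOver_hom {U : C} {z : Over U} (m m' : z ⟶ tOver U) : m = m' :=
  Over.OverMorphism.ext (by
    have h : m.left ≫ 𝟙 U = z.hom := Over.w m
    have h' : m'.left ≫ 𝟙 U = z.hom := Over.w m'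
    simpa using h.trans h'.symm)

/-- The structure morphism as a morphism to `𝟙 U`. -/
def mzOver {U : C} (z : Over U) : z ⟶ tOver U := Over.homMk z.hom (Category.comp_id _)

lemma based_ext {𝒳 𝒴 : BasedCategory.{v, max u v} C} {F G : 𝒳 ⥤ᵇ 𝒴}
    (h : F.toFunctor = G.toFunctor) : F = G := by
  obtain ⟨F, hF⟩ := F
  obtain ⟨G, hG⟩ := G
  cases h
  rfl

variable (𝒳 : BasedCategory.{v, max u v} C)

/-- Cartesian functors `C/U ⟶ 𝒳`. -/
def Pt (U : C) : Type (max u v) := { a : overCat U ⥤ᵇ 𝒳 // PreservesStronglyCartesian a }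

variable {𝒳}

namespace Pt

variable {U V W : C}

lemma cart (a : Pt 𝒳 U) {z z' : Over U} (n : z ⟶ z') : Cart 𝒳.p (a.1.map n) :=
  cart_of_lift _ _ (a.2 _ n (cart_of_grpd (isFibGrpd_overCat U) n))

/-- Vertical morphisms between the values at `𝟙 U`. -/
def Hom (a b : Pt 𝒳 U) : Type v :=
  { φ : a.1.obj (tOver U) ⟶ b.1.obj (tOver U) //
      𝒳.p.map φ = eqToHom ((a.1.w_obj (tOver U)).trans (b.1.w_obj (tOver U)).symm) }

instance category : Category.{v} (Pt 𝒳 U) where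
  Hom := Hom
  id a := ⟨𝟙 _, 𝒳.p.map_id _⟩
  comp f g := ⟨f.1 ≫ g.1, by rw [Functor.map_comp, f.2, g.2, eqToHom_trans]⟩
  id_comp f := Subtype.ext (Category.id_comp _)
  comp_id f := Subtype.ext (Category.comp_id _)
  assoc f g h := Subtype.ext (Category.assoc _ _ _)

@[simp] lemma id_val (a : Pt 𝒳 U) : (𝟙 a : a ⟶ a).1 = 𝟙 _ := rfl

@[simp] lemma comp_val {a b c : Pt 𝒳 U} (f : a ⟶ b) (g : b ⟶ c) : (f ≫ g).1 = f.1 ≫ g.1 := rfl

lemma val_eqToHom {a b : Pt 𝒳 U} (h : a = b) :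
    (eqToHom h).1 = eqToHom (congrArg (fun x : Pt 𝒳 U => x.1.obj (tOver U)) h) := by
  subst h
  rfl

lemma exists_ext {a b : Pt 𝒳 U} (φ : a ⟶ b) (z : Over U) : ∃! χ : a.1.obj z ⟶ b.1.obj z,
    𝒳.p.map χ = eqToHom ((a.1.w_obj z).trans (b.1.w_obj z).symm) ∧
      χ ≫ b.1.map (mzOver z) = a.1.map (mzOver z) ≫ φ.1 :=
  existsUnique_of_cart (b.cart _) _ _ (by simp [map_map, φ.2])

/-- The component at `z` of the extension of `φ`. -/
noncomputable def ext {a b : Pt 𝒳 U} (φ : a ⟶ b) (z : Over U) : a.1.obj z ⟶ b.1.obj z :=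
  (exists_ext φ z).choose

lemma ext_map {a b : Pt 𝒳 U} (φ : a ⟶ b) (z : Over U) :
    𝒳.p.map (ext φ z) = eqToHom ((a.1.w_obj z).trans (b.1.w_obj z).symm) :=
  (exists_ext φ z).choose_spec.1.1

lemma ext_comm {a b : Pt 𝒳 U} (φ : a ⟶ b) {z : Over U} (m : z ⟶ tOver U) :
    ext φ z ≫ b.1.map m = a.1.map m ≫ φ.1 := by
  rw [tOver_hom m (mzOver z)]
  exact (exists_ext φ z).choose_spec.1.2

lemma ext_unique {a b : Pt 𝒳 U} (φ : a ⟶ b) {z : Over U} (χ : a.1.obj z ⟶ b.1.obj z)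
    (h₁ : 𝒳.p.map χ = eqToHom ((a.1.w_obj z).trans (b.1.w_obj z).symm))
    (h₂ : χ ≫ b.1.map (mzOver z) = a.1.map (mzOver z) ≫ φ.1) : ext φ z = χ :=
  ((exists_ext φ z).choose_spec.2 χ ⟨h₁, h₂⟩).symm

lemma ext_natural {a b : Pt 𝒳 U} (φ : a ⟶ b) {z z' : Over U} (n : z ⟶ z') :
    a.1.map n ≫ ext φ z' = ext φ z ≫ b.1.map n := by
  refine cancel_of_cart (b.cart (mzOver z')) (by simp [map_map, ext_map]) ?_
  rw [Category.assoc, Category.assoc, ext_comm, ← Functor.map_comp, ext_comm, ← Functor.map_comp_assoc]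

lemma ext_eq_conj {a b : Pt 𝒳 U} (φ : a ⟶ b) {z : Over U} (h : z = tOver U) :
    ext φ z = eqToHom (congrArg (fun x => a.1.obj x) h) ≫ φ.1 ≫
      eqToHom (congrArg (fun x => b.1.obj x) h).symm := by
  subst h
  refine (ext_unique φ φ.1 φ.2 ?_).trans (by simp)
  rw [tOver_hom (mzOver (tOver U)) (𝟙 _)]
  simp

lemma ext_congr {a b : Pt 𝒳 U} (φ : a ⟶ b) {z z' : Over U} (h : z = z') :
    ext φ z = eqToHom (congrArg (fun x => a.1.obj x) h) ≫ ext φ z' ≫
      eqToHom (congrArg (fun x => b.1.obj x) h).symm := by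
  subst h
  simp

/-- Pull back along `f`. -/
noncomputable def pull (f : V ⟶ U) : Pt 𝒳 U ⥤ Pt 𝒳 V where
  obj a := ⟨BasedFunctor.comp (overMap f) a.1, fun R S g z z' n hn => by
    haveI := hn.toIsHomLift
    haveI : 𝒳.p.IsHomLift g ((BasedFunctor.comp (overMap f) a.1).map n) :=
      BasedFunctor.preserves_isHomLift _ g n
    exact lift_of_cart g _ (a.cart ((Over.map f).map n))⟩
  map {a b} φ := ⟨ext φ ((Over.map f).obj (tOver V)), (ext_map φ _).trans rfl⟩
  map_id a := Subtype.ext (ext_unique (𝟙 a) (𝟙 _) (𝒳.p.map_id _) (by simp))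
  map_comp {a b c} φ ψ := Subtype.ext (ext_unique (φ ≫ ψ) _
    (by
      show 𝒳.p.map (ext φ _ ≫ ext ψ _) = _
      rw [Functor.map_comp]
      exact (congrArg₂ (· ≫ ·) (ext_map φ _) (ext_map ψ _)).trans (eqToHom_trans _ _))
    (by
      show (ext φ _ ≫ ext ψ _) ≫ _ = _
      rw [Category.assoc, ext_comm, ← Category.assoc, ext_comm, Category.assoc]
      rfl))

lemma ext_pull {a b : Pt 𝒳 U} (φ : a ⟶ b) (f : V ⟶ U) (z : Over V) :
    ext ((pull f).map φ) z = ext φ ((Over.map f).obj z) := by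
  refine ext_unique _ _ (ext_map φ _) ?_
  exact (ext_natural φ ((Over.map f).map (mzOver z))).symm

lemma pull_id : pull (𝟙 U) = 𝟭 (Pt 𝒳 U) := by
  have ho : ∀ a : Pt 𝒳 U, (pull (𝟙 U)).obj a = a := fun a => Subtype.ext (based_ext (by
    show Over.map (𝟙 U) ⋙ a.1.toFunctor = a.1.toFunctor
    rw [Over.mapId_eq, Functor.id_comp]))
  refine CategoryTheory.Functor.ext ho (fun a b φ => Subtype.ext ?_)
  show ext φ _ = _
  rw [comp_val, comp_val, val_eqToHom, val_eqToHom]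
  exact ext_eq_conj φ (congrArg (fun G : Over U ⥤ Over U => G.obj (tOver U)) (Over.mapId_eq U))

lemma pull_comp (g : W ⟶ V) (f : V ⟶ U) :
    pull (g ≫ f) = (pull f ⋙ pull g : Pt 𝒳 U ⥤ Pt 𝒳 W) := by
  have ho : ∀ a : Pt 𝒳 U, (pull (g ≫ f)).obj a = (pull g).obj ((pull f).obj a) := fun a =>
    Subtype.ext (based_ext (by
      show Over.map (g ≫ f) ⋙ a.1.toFunctor = Over.map g ⋙ Over.map f ⋙ a.1.toFunctor
      rw [Over.mapComp_eq]
      rfl))
  refine CategoryTheory.Functor.ext ho (fun a b φ => Subtype.ext ?_)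
  show ext φ _ = _
  rw [comp_val, comp_val, val_eqToHom, val_eqToHom]
  refine (ext_congr φ (congrArg (fun G : Over W ⥤ Over U => G.obj (tOver W)) (Over.mapComp_eq g f))).trans ?_
  rw [show ((pull f ⋙ pull g).map φ).1 = ext φ ((Over.map f).obj ((Over.map g).obj (tOver W))) from
    ext_pull φ f _]
  rfl

end Pt

variable (𝒳)

/-- The strict functor `U ↦ Pt U`. -/
noncomputable def ptFunctor : Cᵒᵖ ⥤ Cat.{v, max u v} where
  obj U := Cat.of (Pt 𝒳 U.unop)
  map f := (Pt.pull f.unop).toCatHom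
  map_id _ := congr($(Pt.pull_id).toCatHom)
  map_comp f g := congr($(Pt.pull_comp g.unop f.unop).toCatHom)

/-- The category of elements. -/
noncomputable abbrev elts : BasedCategory.{v, max u v} C :=
  BasedCategory.ofFunctor (Pseudofunctor.CoGrothendieck.forget (ptFunctor 𝒳).toPseudofunctor')

variable {𝒳}

/-- The point underlying an object of the category of elements. -/
abbrev ptOf (X : (elts 𝒳).obj) : Pt 𝒳 X.base := X.fiber

/-- The fibre component of a morphism. -/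
abbrev homOf {X Y : (elts 𝒳).obj} (f : X ⟶ Y) : ptOf X ⟶ (Pt.pull f.base).obj (ptOf Y) := f.fiber

lemma homOf_id (X : (elts 𝒳).obj) :
    homOf (𝟙 X) = eqToHom (Functor.congr_obj (Pt.pull_id (𝒳 := 𝒳)) (ptOf X)).symm := by
  show ((ptFunctor 𝒳).toPseudofunctor'.mapId ⟨op X.base⟩).inv.toNatTrans.app X.fiber = _
  exact Cat.eqToHom_app _ _ ((ptFunctor 𝒳).map_id (op X.base)).symm _

lemma homOf_comp {X Y Z : (elts 𝒳).obj} (f : X ⟶ Y) (g : Y ⟶ Z) :
    homOf (f ≫ g) = homOf f ≫ (Pt.pull f.base).map (homOf g) ≫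
      eqToHom (Functor.congr_obj (Pt.pull_comp (𝒳 := 𝒳) f.base g.base) (ptOf Z)).symm := by
  show f.fiber ≫ ((ptFunctor 𝒳).toPseudofunctor'.map f.base.op.toLoc).toFunctor.map g.fiber ≫
    ((ptFunctor 𝒳).toPseudofunctor'.mapComp g.base.op.toLoc f.base.op.toLoc).inv.toNatTrans.app Z.fiber = _
  exact congrArg (fun k => homOf f ≫ (Pt.pull f.base).map (homOf g) ≫ k)
    (Cat.eqToHom_app _ _ ((ptFunctor 𝒳).map_comp g.base.op f.base.op).symm _)

variable (𝒳)

/-- Evaluation at identities. -/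
noncomputable def evalElts : elts 𝒳 ⥤ᵇ 𝒳 where
  toFunctor :=
    { obj := fun X => (ptOf X).1.obj (tOver X.base)
      map := fun {X Y} f => (homOf f).1 ≫ (ptOf Y).1.map (mzOver ((Over.map f.base).obj (tOver X.base)))
      map_id := fun X => by
        rw [homOf_id, Pt.val_eqToHom]
        have hz : tOver X.base = (Over.map (𝟙 X.base)).obj (tOver X.base) :=
          (congrArg (fun G : Over X.base ⥤ Over X.base => G.obj (tOver X.base)) (Over.mapId_eq X.base)).symm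
        show eqToHom (congrArg (fun x => (ptOf X).1.obj x) hz) ≫ (ptOf X).1.map (mzOver _) = 𝟙 _
        rw [← eqToHom_map (ptOf X).1.toFunctor hz, ← Functor.map_comp,
          tOver_hom (eqToHom hz ≫ mzOver _) (𝟙 _), Functor.map_id]
      map_comp := fun {X Y Z} f g => by
        rw [homOf_comp]
        have hz : (Over.map g.base).obj ((Over.map f.base).obj (tOver X.base)) =
            (Over.map (f.base ≫ g.base)).obj (tOver X.base) :=
          (congrArg (fun G : Over X.base ⥤ Over Z.base => G.obj (tOver X.base))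
            (Over.mapComp_eq f.base g.base)).symm
        rw [Pt.comp_val, Pt.comp_val, Pt.val_eqToHom]
        show ((homOf f).1 ≫ Pt.ext (homOf g) ((Over.map f.base).obj (tOver X.base)) ≫
            eqToHom (congrArg (fun x => (ptOf Z).1.obj x) hz)) ≫
            (ptOf Z).1.map (mzOver ((Over.map (f.base ≫ g.base)).obj (tOver X.base))) =
          ((homOf f).1 ≫ (ptOf Y).1.map (mzOver _)) ≫ (homOf g).1 ≫ (ptOf Z).1.map (mzOver _)
        have h2 := Pt.ext_comm (homOf g) (mzOver ((Over.map f.base).obj (tOver X.base)))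
        simp only [Category.assoc]
        refine congrArg ((homOf f).1 ≫ ·) ?_
        refine Eq.trans ?_ ((congrArg (· ≫ (ptOf Z).1.map (mzOver _)) h2).trans (Category.assoc _ _ _))
        refine Eq.trans ?_ (Category.assoc _ _ _).symm
        refine congrArg (Pt.ext (homOf g) _ ≫ ·) ?_
        refine ((congrArg (· ≫ (ptOf Z).1.map (mzOver _)) (eqToHom_map (ptOf Z).1.toFunctor hz).symm).trans
          ((ptOf Z).1.toFunctor.map_comp _ _).symm).trans ?_
        refine Eq.trans ?_ ((ptOf Z).1.toFunctor.map_comp ((Over.map g.base).map (mzOver _)) _)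
        exact congrArg (ptOf Z).1.map (tOver_hom _ _) }
  w := CategoryTheory.Functor.ext (fun X => (ptOf X).1.w_obj (tOver X.base)) (fun X Y f => by
    show 𝒳.p.map ((homOf f).1 ≫ (ptOf Y).1.map (mzOver _)) = eqToHom _ ≫ f.base ≫ eqToHom _
    rw [Functor.map_comp, (homOf f).2, map_map]
    show eqToHom _ ≫ eqToHom _ ≫ (𝟙 X.base ≫ f.base) ≫ eqToHom _ = _
    simp)

lemma map_evalElts {X Y : (elts 𝒳).obj} (f : X ⟶ Y) :
    𝒳.p.map ((evalElts 𝒳).map f) =
      eqToHom ((ptOf X).1.w_obj (tOver X.base)) ≫ f.base ≫ eqToHom ((ptOf Y).1.w_obj (tOver Y.base)).symm :=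
  Functor.congr_hom (evalElts 𝒳).w f

instance : (evalElts 𝒳).toFunctor.Faithful := ⟨fun {X Y} m m' h => by
  have hp := congrArg 𝒳.p.map h
  rw [map_evalElts, map_evalElts] at hp
  have hb : m.base = m'.base :=
    (cancel_mono (eqToHom ((ptOf Y).1.w_obj (tOver Y.base)).symm)).1
      ((cancel_epi (eqToHom ((ptOf X).1.w_obj (tOver X.base)))).1 hp)
  obtain ⟨f, φ⟩ := m
  obtain ⟨f', φ'⟩ := m'
  obtain rfl : f = f' := hb
  congr 1
  refine Subtype.ext (cancel_of_cart ((ptOf Y).cart (mzOver _)) ?_ h)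
  exact φ.2.trans φ'.2.symm⟩

instance : (evalElts 𝒳).toFunctor.Full := ⟨fun {X Y} ψ => by
  let f : X.base ⟶ Y.base :=
    eqToHom ((ptOf X).1.w_obj (tOver X.base)).symm ≫ 𝒳.p.map ψ ≫ eqToHom ((ptOf Y).1.w_obj (tOver Y.base))
  obtain ⟨χ, ⟨hχ, hc⟩, -⟩ := existsUnique_of_cart
    ((ptOf Y).cart (mzOver ((Over.map f).obj (tOver X.base)))) ψ
    (eqToHom (((ptOf X).1.w_obj (tOver X.base)).trans
      ((ptOf Y).1.w_obj ((Over.map f).obj (tOver X.base))).symm))
    (by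
      rw [map_map]
      show _ ≫ eqToHom _ ≫ (𝟙 X.base ≫ f) ≫ eqToHom _ = _
      simp [f])
  exact ⟨⟨f, ⟨χ, hχ⟩⟩, hc⟩⟩

theorem isEquivOver_evalElts [𝒳.p.IsFibered] : IsEquivOver (evalElts 𝒳) := by
  refine isEquivOver_of_fullyFaithful _ fun η => ?_
  haveI := (Groth.Agent.S6410.result (𝒳 := 𝒳) (𝒳.p.obj η))
  let P := ObjectProperty.ι (PreservesStronglyCartesian (𝒳 := overCat (𝒳.p.obj η)) (𝒴 := 𝒳)) ⋙
    evalAtId 𝒳 (𝒳.p.obj η)
  let y : 𝒳.p.Fiber (𝒳.p.obj η) := ⟨η, rfl⟩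
  let d := P.objObjPreimageIso y
  let a : Pt 𝒳 (𝒳.p.obj η) := ⟨(P.objPreimage y).obj, (P.objPreimage y).property⟩
  exact ⟨⟨𝒳.p.obj η, a⟩, Functor.Fiber.fiberInclusion.mapIso d, _, map_of_fiber d.hom⟩

theorem isGroupoid_ptFunctor (h : IsFibGrpd 𝒳.p) (U : Cᵒᵖ) : IsGroupoid ((ptFunctor 𝒳).obj U) :=
  ⟨fun {a b} φ => by
    change Pt 𝒳 U.unop at a b
    let ψ : a ⟶ b := φ
    haveI : IsIso (𝒳.p.map ψ.1) := by rw [ψ.2]; infer_instance
    haveI := isIso_of_map h ψ.1
    exact ⟨⟨inv ψ.1, map_inv_of_eqToHom _ ψ.2⟩, Subtype.ext (IsIso.hom_inv_id ψ.1),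
      Subtype.ext (IsIso.inv_hom_id ψ.1)⟩⟩

end Groth.Agent.FibCatRep
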